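import Groth.Agent.Lib.EtDescent.Glue

/-!
# Effectiveness of descent from extension of stalk elements
-/

universe u

open CategoryTheory CategoryTheory.Limits AlgebraicGeometry Opposite
open GrothLib.EtSite GrothLib.EtSec

set_option backward.isDefEq.respectTransparency.types false

noncomputable section

namespace GrothLib.EtDescent

variable {X' X : Scheme.{u}} {f : X' ⟶ X} {F' : EtDesc.Sh X'}
  (φ : (EtDesc.pullSh (pullback.fst f f)).obj F' ≅ (EtDesc.pullSh (pullback.snd f f)).obj F')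

/-- Every stalk element extends to a compatible section over an etale neighbourhood in the base. -/
def Extends : Prop :=
  ∀ x : X', ∃ (Ω : Type u) (_ : Field Ω) (_ : IsSepClosed Ω) (ξ : Spec (CommRingCat.of Ω) ⟶ X'),
    ξ.base default = x ∧ ∀ y : (stalkSh ξ).obj F', ∃ (U : X.Etale) (l : Spec (CommRingCat.of Ω) ⟶ pullback U.hom f)
      (hl : l ≫ pullback.snd U.hom f = ξ) (σ : CSecs φ U), σ.1.val Ω l ξ hl = y

/-- A compatible section over `U` is a section of `F'` over `U ×_X X'`. -/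
def glueApp (U : X.Etale) (σ : CSecs φ U) : EtDesc.sect F' ((EtCoh.bc f).obj U) :=
  (Equiv.ofBijective _ (secOf_bijective F' ((EtCoh.bc f).obj U))).symm σ.1

theorem secOf_glueApp (U : X.Etale) (σ : CSecs φ U) :
    secOf F' (U := (EtCoh.bc f).obj U) (glueApp φ U σ) = σ.1 :=
  (Equiv.ofBijective _ (secOf_bijective F' ((EtCoh.bc f).obj U))).apply_symm_apply σ.1

theorem glueApp_naturality {U V : X.Etale} (r : V ⟶ U) (σ : CSecs φ U) :
    glueApp φ V ((gluePre φ).map r.op σ) = F'.obj.map ((EtCoh.bc f).map r).op (glueApp φ U σ) := by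
  refine secOf_injective F' ((EtCoh.bc f).obj V) ?_
  rw [secOf_glueApp, secOf_map, secOf_glueApp, gluePre_map_val]
  exact (Secs.res_congr (bcl_eq r).symm _ _ σ.1)

/-- The comparison with the direct image. -/
def glueHom : glueSh φ ⟶ (EtDesc.pushSh f).obj F' :=
  ⟨{ app := fun U => TypeCat.ofHom (glueApp φ U.unop)
     naturality := fun U V r => by
       ext σ
       exact glueApp_naturality φ r.unop σ }⟩

/-- The comparison with `F'`. -/
def glueCmp : (EtDesc.pullSh f).obj (glueSh φ) ⟶ F' :=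
  ((EtDesc.adjSh f).homEquiv _ _).symm (glueHom φ)

theorem glueCmp_unit (U : X.Etale) (σ : CSecs φ U) :
    (glueCmp φ).hom.app (op ((EtCoh.bc f).obj U)) (((EtDesc.adjSh f).unit.app (glueSh φ)).hom.app (op U) σ) =
      glueApp φ U σ := by
  have h : (EtDesc.adjSh f).unit.app (glueSh φ) ≫ (EtDesc.pushSh f).map (glueCmp φ) = glueHom φ :=
    (Adjunction.homEquiv_unit ..).symm.trans (((EtDesc.adjSh f).homEquiv _ _).apply_symm_apply _)
  exact congrArg (fun k : glueSh φ ⟶ (EtDesc.pushSh f).obj F' => k.hom.app (op U) σ) h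

variable {Ω : Type u} [Field Ω] [IsSepClosed Ω]

theorem stalk_glueCmp {U : X.Etale} (σ : CSecs φ U) {ξ : Spec (CommRingCat.of Ω) ⟶ X'}
    (l : Spec (CommRingCat.of Ω) ⟶ ((EtCoh.bc f).obj U).left) (hl : l ≫ ((EtCoh.bc f).obj U).hom = ξ) :
    (stalkSh ξ).map (glueCmp φ) (gSh ((EtDesc.pullSh f).obj (glueSh φ)) l hl
        (((EtDesc.adjSh f).unit.app (glueSh φ)).hom.app (op U) σ)) = σ.1.val Ω l ξ hl := by
  rw [gSh_stalk_map]
  refine (congrArg (gSh F' l hl) (glueCmp_unit φ U σ)).trans ?_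
  refine (secOf_val F' (U := (EtCoh.bc f).obj U) (glueApp φ U σ) Ω l ξ hl).symm.trans ?_
  rw [secOf_glueApp]

variable {φ}

/-- Equal values imply equal germs in the descended sheaf. -/
theorem eq_of_val_eq (hf : EtDesc.IsUnivSubmersive f) {U₁ U₂ : X.Etale} (σ₁ : CSecs φ U₁) (σ₂ : CSecs φ U₂)
    {ξ : Spec (CommRingCat.of Ω) ⟶ X'} {η : Spec (CommRingCat.of Ω) ⟶ X}
    (l₁ : Spec (CommRingCat.of Ω) ⟶ pullback U₁.hom f) (hl₁ : l₁ ≫ pullback.snd U₁.hom f = ξ)
    (l₂ : Spec (CommRingCat.of Ω) ⟶ pullback U₂.hom f) (hl₂ : l₂ ≫ pullback.snd U₂.hom f = ξ)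
    (h₁ : (l₁ ≫ pullback.fst U₁.hom f) ≫ U₁.hom = η) (h₂ : (l₂ ≫ pullback.fst U₂.hom f) ≫ U₂.hom = η)
    (he : σ₁.1.val Ω l₁ ξ hl₁ = σ₂.1.val Ω l₂ ξ hl₂) :
    gSh (glueSh φ) (l₁ ≫ pullback.fst U₁.hom f) h₁ σ₁ = gSh (glueSh φ) (l₂ ≫ pullback.fst U₂.hom f) h₂ σ₂ := by
  let u₁ : U₁.left ⟶ X := U₁.hom
  let u₂ : U₂.left ⟶ X := U₂.hom
  haveI : Etale u₁ := U₁.prop
  haveI : Etale u₂ := U₂.prop
  haveI : Etale (pullback.fst u₁ u₂) := MorphismProperty.pullback_fst _ _ ‹Etale u₂›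
  let W : X.Etale := Scheme.Etale.mk (pullback.fst u₁ u₂ ≫ u₁)
  let r₁ : W ⟶ U₁ := MorphismProperty.Over.homMk (pullback.fst u₁ u₂) rfl
  let r₂ : W ⟶ U₂ := MorphismProperty.Over.homMk (pullback.snd u₁ u₂) pullback.condition.symm
  let π : pullback W.hom f ⟶ W.left := pullback.fst W.hom f
  let τ₁ : CSecs φ W := (gluePre φ).map r₁.op σ₁
  let τ₂ : CSecs φ W := (gluePre φ).map r₂.op σ₂
  let w : Spec (CommRingCat.of Ω) ⟶ W.left := pullback.lift (l₁ ≫ pullback.fst U₁.hom f)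
    (l₂ ≫ pullback.fst U₂.hom f) (h₁.trans h₂.symm)
  let z : Spec (CommRingCat.of Ω) ⟶ pullback W.hom f := pullback.lift w ξ (by
    refine ((Category.assoc _ _ _).symm.trans (congrArg (· ≫ u₁) (pullback.lift_fst _ _ _))).trans ?_
    rw [← hl₁, Category.assoc, Category.assoc, ← pullback.condition])
  have z₁ : z ≫ bcl r₁ = l₁ := pullback.hom_ext
    (by rw [Category.assoc, bcl_fst, ← Category.assoc, pullback.lift_fst]; exact pullback.lift_fst _ _ _)
    (by rw [Category.assoc, bcl_snd, pullback.lift_snd]; exact hl₁.symm)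
  have z₂ : z ≫ bcl r₂ = l₂ := pullback.hom_ext
    (by rw [Category.assoc, bcl_fst, ← Category.assoc, pullback.lift_fst]; exact pullback.lift_snd _ _ _)
    (by rw [Category.assoc, bcl_snd, pullback.lift_snd]; exact hl₂.symm)
  let E := Secs.eqLocus τ₁.1 τ₂.1
  have hsat : π.base ⁻¹' (π.base '' E) = E := by
    refine Set.Subset.antisymm ?_ (Set.subset_preimage_image _ _)
    rintro y₁ ⟨y₂, hy₂, hy⟩
    exact DCompat.eq_of_mem ⟨W.hom, pullback.condition.symm⟩ τ₁.2 τ₂.2 hy.symm hy₂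
  have hπ : EtDesc.IsUnivSubmersive π := univSubmersive_of_isPullback hf (IsPullback.of_hasPullback W.hom f).flip
  let O : W.left.Opens := ⟨π.base '' E, (isQuotientMap_of_univSubmersive hπ).isOpen_preimage.1
    (by rw [hsat]; exact Secs.isOpen_eqLocus _ _)⟩
  have hzE : z.base default ∈ E := by
    refine (Secs.mem_eqLocus_iff _ _ z ξ (pullback.lift_snd _ _ _)).2 ?_
    simp only [τ₁, τ₂, gluePre_map_val, Secs.res_val]
    exact (σ₁.1.val_congr z₁ _ hl₁).trans (he.trans (σ₂.1.val_congr z₂.symm hl₂ _))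
  have hwO : w.base default ∈ O :=
    ⟨z.base default, hzE, congrArg (fun k : Spec (CommRingCat.of Ω) ⟶ W.left => k.base default) (pullback.lift_fst _ _ _)⟩
  let Oi : (O : Scheme.{u}) ⟶ pullback u₁ u₂ := O.ι
  haveI : Etale Oi := inferInstanceAs (Etale O.ι)
  let Wo : X.Etale := Scheme.Etale.mk (Oi ≫ pullback.fst u₁ u₂ ≫ u₁)
  let ro : Wo ⟶ W := MorphismProperty.Over.homMk Oi rfl
  obtain ⟨w', hw', -⟩ := exists_lift O.ι w ⟨_, hwO⟩ rfl
  have hρ : (gluePre φ).map ro.op τ₁ = (gluePre φ).map ro.op τ₂ := by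
    refine Subtype.ext (Secs.eq_of_eqLocus _ _ fun y => ?_)
    refine (Secs.mem_eqLocus_res (bcl ro) (bcl_snd ro) τ₁.1 τ₂.1 y).2 ?_
    refine hsat.le ?_
    have : π.base ((bcl ro).base y) = O.ι.base ((pullback.fst Wo.hom f).base y) :=
      congrArg (fun k : pullback Wo.hom f ⟶ W.left => k.base y) (bcl_fst ro)
    exact Set.mem_preimage.2 (Set.mem_of_eq_of_mem this ((pullback.fst Wo.hom f).base y).2)
  have hw : w ≫ W.hom = η :=
    ((Category.assoc _ _ _).symm.trans (congrArg (· ≫ u₁) (pullback.lift_fst _ _ _))).trans h₁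
  have hwo : w' ≫ Wo.hom = η :=
    ((Category.assoc _ _ _).symm.trans (congrArg (· ≫ W.hom) hw')).trans hw
  have hwo' : (w' ≫ ro.left) ≫ W.hom = η := (congrArg (· ≫ W.hom) hw').trans hw
  have key := congrArg (gSh (glueSh φ) w' hwo) hρ
  have g₁ : w ≫ r₁.left = l₁ ≫ pullback.fst U₁.hom f := pullback.lift_fst _ _ _
  have g₂ : w ≫ r₂.left = l₂ ≫ pullback.fst U₂.hom f := pullback.lift_snd _ _ _
  refine ((gSh_congr (F := glueSh φ) g₁.symm h₁ ((congrArg (· ≫ U₁.hom) g₁).trans h₁) σ₁).trans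
    (gSh_map (F := glueSh φ) r₁ w hw _ σ₁).symm).trans (Eq.trans ?_ ((gSh_map (F := glueSh φ) r₂ w hw
      ((congrArg (· ≫ U₂.hom) g₂).trans h₂) σ₂).trans (gSh_congr (F := glueSh φ) g₂ _ h₂ σ₂)))
  exact ((gSh_congr (F := glueSh φ) hw'.symm hw hwo' τ₁).trans (gSh_map (F := glueSh φ) ro w' hwo hwo' τ₁).symm).trans
    (key.trans ((gSh_map (F := glueSh φ) ro w' hwo hwo' τ₂).trans (gSh_congr (F := glueSh φ) hw' hwo' hw τ₂)))

theorem isEffective_of_extends (hf : EtDesc.IsUnivSubmersive f) (hφ : EtDesc.IsCocycle F' φ) (hext : Extends φ) :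
    EtDesc.IsEffective f F' φ := by
  have hbij : ∀ x : X', ∃ (Ω : Type u) (_ : Field Ω) (_ : IsSepClosed Ω) (ξ : Spec (CommRingCat.of Ω) ⟶ X'),
      ξ.base default = x ∧ Function.Bijective ((stalkSh ξ).map (glueCmp φ)) := by
    intro x
    obtain ⟨Ω, _, _, ξ, hx, hy⟩ := hext x
    refine ⟨Ω, inferInstance, inferInstance, ξ, hx, fun z₁ z₂ h => ?_, fun y => ?_⟩
    · obtain ⟨U₁, l₁, hl₁, σ₁, rfl⟩ := exists_gSh_unit f (glueSh φ) z₁
      obtain ⟨U₂, l₂, hl₂, σ₂, rfl⟩ := exists_gSh_unit f (glueSh φ) z₂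
      rw [stalk_glueCmp φ σ₁ l₁ hl₁, stalk_glueCmp φ σ₂ l₂ hl₂] at h
      have e₁ : (l₁ ≫ pullback.fst U₁.hom f) ≫ U₁.hom = ξ ≫ f :=
        (Category.assoc _ _ _).trans ((congrArg (l₁ ≫ ·) (bc_cond f U₁)).trans
          ((Category.assoc _ _ _).symm.trans (congrArg (· ≫ f) hl₁)))
      have e₂ : (l₂ ≫ pullback.fst U₂.hom f) ≫ U₂.hom = ξ ≫ f :=
        (Category.assoc _ _ _).trans ((congrArg (l₂ ≫ ·) (bc_cond f U₂)).trans
          ((Category.assoc _ _ _).symm.trans (congrArg (· ≫ f) hl₂)))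
      exact (pst_bijective f _ rfl).injective ((pst_unit f _ rfl l₁ hl₁ e₁ σ₁).trans
        ((eq_of_val_eq hf σ₁ σ₂ l₁ hl₁ l₂ hl₂ e₁ e₂ h).trans (pst_unit f _ rfl l₂ hl₂ e₂ σ₂).symm))
    · obtain ⟨U, l, hl, σ, rfl⟩ := hy y
      exact ⟨_, stalk_glueCmp φ σ l hl⟩
  haveI := isIso_of_stalksSh (glueCmp φ) hbij
  refine ⟨glueSh φ, asIso (glueCmp φ), ?_⟩
  refine Iso.ext ?_
  have key : (EtDesc.canIso f (glueSh φ)).hom ≫ (EtDesc.pullSh (pullback.snd f f)).map (glueCmp φ) =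
      (EtDesc.pullSh (pullback.fst f f)).map (glueCmp φ) ≫ φ.hom := by
    refine hom_ext_of_stalksSh _ _ fun x => ?_
    obtain ⟨Ω, _, _, q, rfl⟩ := Secs.exists_point x
    refine ⟨Ω, inferInstance, inferInstance, q, rfl, ?_⟩
    refine ConcreteCategory.hom_ext _ _ fun y => ?_
    rw [Functor.map_comp, Functor.map_comp, ConcreteCategory.comp_apply, ConcreteCategory.comp_apply]
    have e₂ : (q ≫ pullback.snd f f) ≫ f = (q ≫ pullback.fst f f) ≫ f := by
      rw [Category.assoc, Category.assoc, pullback.condition]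
    refine (pst_bijective (pullback.snd f f) F' rfl).injective ?_
    rw [pst_map (pullback.snd f f) (glueCmp φ) rfl, ← trans_pst φ q rfl rfl e₂.symm,
      pst_map (pullback.fst f f) (glueCmp φ) rfl]
    obtain ⟨U, l, hl, σ, hσ⟩ := exists_gSh_unit f (glueSh φ) (pst (pullback.fst f f) _ rfl y)
    let m : Spec (CommRingCat.of Ω) ⟶ U.left := l ≫ pullback.fst U.hom f
    have hm : m ≫ U.hom = (q ≫ pullback.fst f f) ≫ f :=
      (Category.assoc _ _ _).trans ((congrArg (l ≫ ·) (bc_cond f U)).trans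
        ((Category.assoc _ _ _).symm.trans (congrArg (· ≫ f) hl)))
    let l' : Spec (CommRingCat.of Ω) ⟶ ((EtCoh.bc f).obj U).left :=
      pullback.lift m (q ≫ pullback.snd f f) (hm.trans e₂.symm)
    have hl' : l' ≫ ((EtCoh.bc f).obj U).hom = q ≫ pullback.snd f f := pullback.lift_snd _ _ _
    have hl'' : l' ≫ pullback.fst U.hom f = l ≫ pullback.fst U.hom f := pullback.lift_fst _ _ _
    have hz : pst (pullback.snd f f) _ rfl ((stalkSh q).map (EtDesc.canIso f (glueSh φ)).hom y) =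
        gSh ((EtDesc.pullSh f).obj (glueSh φ)) l' hl'
          (((EtDesc.adjSh f).unit.app (glueSh φ)).hom.app (op U) σ) := by
      refine (pst_bijective f (glueSh φ) e₂).injective ?_
      rw [pst_canIso f (glueSh φ) q rfl rfl rfl e₂, ← hσ]
      exact (pst_unit f (glueSh φ) rfl l hl hm σ).trans ((gSh_congr hl''.symm _
        ((congrArg (· ≫ U.hom) hl'').trans hm) σ).trans (pst_unit f (glueSh φ) e₂ l' hl' _ σ).symm)
    rw [hz, ← hσ, stalk_glueCmp φ σ l' hl', stalk_glueCmp φ σ l hl]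
    exact (σ.2 Ω l l' _ _ hl hl' hl''.symm e₂.symm).symm
  simp only [Iso.trans_hom, Iso.symm_hom, Functor.mapIso_inv, Functor.mapIso_hom, asIso_hom]
  rw [key]
  simp

end GrothLib.EtDescent
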