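import Groth.Agent.Lib.EtDescent.KeyExtend
import Groth.Agent.Lib.EtDescent.Effective
import Groth.Agent.Lib.LocAcyc.LocConn
import Mathlib.AlgebraicGeometry.Morphisms.UniversallyOpen

/-!
# Effective descent along universally locally zero-acyclic morphisms
-/

universe u

open CategoryTheory CategoryTheory.Limits AlgebraicGeometry Opposite
open GrothLib.EtSite GrothLib.EtSec GrothLib.LocAcyc

set_option backward.isDefEq.respectTransparency.types false

noncomputable section

namespace GrothLib.EtDescent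

theorem univSubmersive_of_universallyOpen {A B : Scheme.{u}} (g : A ⟶ B) [UniversallyOpen g] [Surjective g] :
    EtDesc.IsUnivSubmersive g := fun T t => by
  haveI : Surjective (pullback.snd g t) := MorphismProperty.pullback_snd _ _ ‹Surjective g›
  exact ⟨(pullback.snd g t).surjective, IsOpenMap.isQuotientMap (pullback.snd g t).isOpenMap
    (pullback.snd g t).continuous (pullback.snd g t).surjective⟩

theorem univSubmersive_of_uGen {A B : Scheme.{u}} {g : A ⟶ B} (hg : UGen g) [QuasiCompact g] [Surjective g] :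
    EtDesc.IsUnivSubmersive g := fun T t => by
  haveI : Surjective (pullback.snd g t) := MorphismProperty.pullback_snd _ _ ‹Surjective g›
  exact ⟨(pullback.snd g t).surjective, (hg.of_isPullback (IsPullback.of_hasPullback g t)).isQuotientMap⟩

variable {X' X : Scheme.{u}} {f : X' ⟶ X} {F' : EtDesc.Sh X'}
  {φ : (EtDesc.pullSh (pullback.fst f f)).obj F' ≅ (EtDesc.pullSh (pullback.snd f f)).obj F'}

theorem exists_ext_of_chart (hu : EtAcyc.IsULocZeroAcyclic f) (hφ : EtDesc.IsCocycle F' φ) {S Q : Scheme.{u}}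
    (j : S ⟶ X) [IsOpenImmersion j] (g : Q ⟶ S) (h : Q ⟶ X') [Etale h] (hgh : h ≫ f = g ≫ j)
    [QuasiCompact g] [QuasiSeparated g] (hg : EtDesc.IsUnivSubmersive g) (z : Q) :
    ∃ (Ω : Type u) (_ : Field Ω) (_ : IsSepClosed Ω) (ξ : Spec (CommRingCat.of Ω) ⟶ X'),
      ξ.base default = h.base z ∧ ∀ y : (stalkSh ξ).obj F', ∃ (U : X.Etale)
        (l : Spec (CommRingCat.of Ω) ⟶ pullback U.hom f) (hl : l ≫ pullback.snd U.hom f = ξ) (σ : CSecs φ U),
          σ.1.val Ω l ξ hl = y := by
  let Y := pullback f j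
  let i : Y ⟶ X' := pullback.fst f j
  let fS : Y ⟶ S := pullback.snd f j
  haveI : IsOpenImmersion i := MorphismProperty.pullback_fst _ _ ‹IsOpenImmersion j›
  let k : Q ⟶ Y := pullback.lift h g hgh
  obtain ⟨Ω, _, _, ξY, hξY, NX, NS, a, d⟩ :=
    locConnected_of_uLocZeroAcyclic (isULocZeroAcyclic_of_isPullback hu (IsPullback.of_hasPullback f j)) (k.base z)
  have hz : h.base z = (ξY ≫ i).base default := by
    rw [show h = k ≫ i from (pullback.lift_fst _ _ _).symm]
    exact congrArg i.base hξY.symm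
  obtain ⟨ξQ, hξQ, -⟩ := exists_lift h (ξY ≫ i) z hz
  have hQS : ξQ ≫ g = ξY ≫ fS := by
    rw [← cancel_mono j, Category.assoc, ← hgh, ← Category.assoc, hξQ, Category.assoc, Category.assoc]
    exact congrArg (ξY ≫ ·) pullback.condition
  refine ⟨Ω, inferInstance, inferInstance, ξY ≫ i, hz.symm, fun y => ?_⟩
  exact exists_extension_of_keyData hφ j i fS pullback.condition.symm g h hgh hg ξY ξQ (ξY ≫ i) rfl hξQ hQS
    (fun g' _ _ F => d.keyData) y

theorem extends_of_uLocZeroAcyclic [Surjective f] (hu : EtAcyc.IsULocZeroAcyclic f) (hφ : EtDesc.IsCocycle F' φ)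
    (h : (QuasiCompact f ∧ QuasiSeparated f) ∨ UniversallyOpen f) : Extends φ := by
  intro x
  obtain ⟨hqc, hqs⟩ | hopen := h
  all_goals obtain ⟨V, hV, hxV, -⟩ := exists_isAffineOpen_mem_and_subset (U := ⊤) (x := f.base x) trivial
  · haveI : Surjective (f ∣_ V) := MorphismProperty.of_isPullback (isPullback_morphismRestrict f V).flip ‹Surjective f›
    haveI : QuasiCompact (f ∣_ V) := MorphismProperty.of_isPullback (isPullback_morphismRestrict f V).flip hqc
    haveI : QuasiSeparated (f ∣_ V) := MorphismProperty.of_isPullback (isPullback_morphismRestrict f V).flip hqs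
    have hg : UGen (f ∣_ V) := (uGen_of_uLocZeroAcyclic hu).of_isPullback (isPullback_morphismRestrict f V).flip
    exact exists_ext_of_chart hu hφ V.ι (f ∣_ V) (f ⁻¹ᵁ V).ι (morphismRestrict_ι f V).symm
      (univSubmersive_of_uGen hg) ⟨x, hxV⟩
  · obtain ⟨Q, hQ, hxQ, hQV⟩ := exists_isAffineOpen_mem_and_subset (U := f ⁻¹ᵁ V) (x := x) hxV
    haveI : IsAffine V.toScheme := hV
    haveI : IsAffine Q.toScheme := hQ
    let g₀ : Q.toScheme ⟶ V.toScheme := X'.homOfLE hQV ≫ f ∣_ V
    haveI : IsAffineHom g₀ := isAffineHom_of_isAffine g₀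
    haveI : UniversallyOpen (f ∣_ V) := MorphismProperty.of_isPullback (isPullback_morphismRestrict f V).flip hopen
    haveI : UniversallyOpen g₀ := inferInstance
    have hr : (g₀.base ⟨x, hxQ⟩) ∈ (⟨Set.range g₀.base, g₀.isOpenMap.isOpen_range⟩ : V.toScheme.Opens) := ⟨_, rfl⟩
    obtain ⟨W, hW, hxW, hWr⟩ := exists_isAffineOpen_mem_and_subset hr
    haveI : Surjective (g₀ ∣_ W) := ⟨fun w => by
      obtain ⟨q, hq⟩ := hWr w.2
      exact ⟨⟨q, show g₀.base q ∈ W by rw [hq]; exact w.2⟩, Subtype.ext ((morphismRestrict_base_coe g₀ W _).trans hq)⟩⟩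
    haveI : UniversallyOpen (g₀ ∣_ W) := MorphismProperty.of_isPullback (isPullback_morphismRestrict g₀ W).flip ‹UniversallyOpen g₀›
    haveI : IsAffineHom (g₀ ∣_ W) := MorphismProperty.of_isPullback (isPullback_morphismRestrict g₀ W).flip ‹IsAffineHom g₀›
    have e : ((g₀ ⁻¹ᵁ W).ι ≫ Q.ι) ≫ f = (g₀ ∣_ W) ≫ W.ι ≫ V.ι := by
      rw [← Category.assoc (g₀ ∣_ W), morphismRestrict_ι]
      simp only [g₀, Category.assoc, morphismRestrict_ι, Scheme.homOfLE_ι_assoc]
    exact exists_ext_of_chart hu hφ (W.ι ≫ V.ι) (g₀ ∣_ W) ((g₀ ⁻¹ᵁ W).ι ≫ Q.ι) e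
      (univSubmersive_of_universallyOpen _) ⟨⟨x, hxQ⟩, hxW⟩

/-- Universally locally zero-acyclic surjective morphisms are of effective descent. -/
theorem isEffective_of_uLocZeroAcyclic [Surjective f] (hu : EtAcyc.IsULocZeroAcyclic f) (hφ : EtDesc.IsCocycle F' φ)
    (h : (QuasiCompact f ∧ QuasiSeparated f) ∨ UniversallyOpen f) : EtDesc.IsEffective f F' φ := by
  refine isEffective_of_extends ?_ hφ (extends_of_uLocZeroAcyclic hu hφ h)
  obtain ⟨hqc, -⟩ | hopen := h
  · exact univSubmersive_of_uGen (uGen_of_uLocZeroAcyclic hu)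
  · exact univSubmersive_of_universallyOpen f

end GrothLib.EtDescent
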