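import Groth.Agent.Lib.EtSec.ConnFibres
import Groth.Prelude.Def_SGA4b

/-!
# Descent of relative sections along submersive morphisms
-/

universe u

open CategoryTheory CategoryTheory.Limits AlgebraicGeometry Opposite
open GrothLib.EtSite GrothLib.EtSec

set_option backward.isDefEq.respectTransparency.types false

noncomputable section

namespace GrothLib.EtDescent

variable {T S Z : Scheme.{u}} {F : EtDesc.Sh S} {a : Z ⟶ T} {b : T ⟶ S}

/-- A section takes equal values at geometric points with the same image. -/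
def Compat (a : Z ⟶ T) {c : Z ⟶ S} (σ : Secs c F) : Prop :=
  ∀ (Ω : Type u) [Field Ω] [IsSepClosed Ω] (p q : Spec (CommRingCat.of Ω) ⟶ Z) (η : Spec (CommRingCat.of Ω) ⟶ S)
    (hp : p ≫ c = η) (hq : q ≫ c = η), p ≫ a = q ≫ a → σ.val Ω p η hp = σ.val Ω q η hq

theorem compat_res {c : Z ⟶ S} (e : a ≫ b = c) (s : Secs b F) : Compat a (s.res a e) :=
  fun _ _ _ _ _ _ _ _ h => s.val_congr h _ _

theorem isSaturated_of_compat {c : Z ⟶ S} {σ : Secs c F} (hσ : Compat a σ) (e : a ≫ b = c)
    {W : Scheme.{u}} (w : W ⟶ T) (ρ : Secs (w ≫ b) F) :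
    (pullback.snd a w).base ⁻¹' ((pullback.snd a w).base '' Secs.eqLocus
        (σ.res (pullback.fst a w) (show pullback.fst a w ≫ c = pullback.snd a w ≫ w ≫ b by
          rw [← e, pullback.condition_assoc]))
        (ρ.res (pullback.snd a w) rfl)) =
      Secs.eqLocus
        (σ.res (pullback.fst a w) (show pullback.fst a w ≫ c = pullback.snd a w ≫ w ≫ b by
          rw [← e, pullback.condition_assoc]))
        (ρ.res (pullback.snd a w) rfl) := by
  refine Set.Subset.antisymm ?_ (Set.subset_preimage_image _ _)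
  rintro y₁ ⟨y₂, hy₂E, hy₂⟩
  obtain ⟨y, hy₁', hy₂'⟩ := Scheme.Pullback.exists_preimage_pullback (f := pullback.snd a w)
    (g := pullback.snd a w) y₁ y₂ hy₂.symm
  obtain ⟨Ω, _, _, q, rfl⟩ := Secs.exists_point y
  rw [← hy₁']
  rw [← hy₂'] at hy₂E
  let r₁ := q ≫ pullback.fst (pullback.snd a w) (pullback.snd a w)
  let r₂ := q ≫ pullback.snd (pullback.snd a w) (pullback.snd a w)
  let η := r₁ ≫ pullback.snd a w ≫ w ≫ b
  have hπ : r₁ ≫ pullback.snd a w = r₂ ≫ pullback.snd a w := by
    simp only [r₁, r₂, Category.assoc, pullback.condition]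
  have h₂ : r₂ ≫ pullback.snd a w ≫ w ≫ b = η := by
    simp only [η, ← Category.assoc]; rw [hπ]
  have hφ : (r₁ ≫ pullback.fst a w) ≫ a = (r₂ ≫ pullback.fst a w) ≫ a := by
    simp only [Category.assoc, pullback.condition]; simp only [← Category.assoc]; rw [hπ]
  refine (Secs.mem_eqLocus_iff _ _ r₁ η rfl).2 ?_
  have := (Secs.mem_eqLocus_iff _ _ r₂ η h₂).1 hy₂E
  rw [Secs.res_val, Secs.res_val] at this ⊢
  exact (hσ Ω _ _ η _ _ hφ).trans (this.trans (ρ.val_congr hπ.symm _ _))

/-- Compatible sections descend along morphisms all of whose etale base changes are quotient maps. -/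
theorem exists_descend (hq : HasQuotientBC a) {c : Z ⟶ S} (e : a ≫ b = c) (σ : Secs c F) (hσ : Compat a σ) :
    ∃ s : Secs b F, s.res a e = σ := by
  haveI := hq.surjective
  have loc : ∀ t : T, ∃ (W : Scheme.{u}) (w : W ⟶ T) (_ : Etale w) (x : W) (ρ : Secs (w ≫ b) F),
      w.base x = t ∧ ∀ y : ↥(pullback a w), y ∈ Secs.eqLocus
        (σ.res (pullback.fst a w) (show pullback.fst a w ≫ c = pullback.snd a w ≫ w ≫ b by
          rw [← e, pullback.condition_assoc]))
        (ρ.res (pullback.snd a w) rfl) := by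
    intro t
    obtain ⟨z, rfl⟩ := a.surjective t
    obtain ⟨Ω, _, _, p, rfl⟩ := Secs.exists_point z
    obtain ⟨V, v, hv, p', W₀, m, hm, s, hp, hs⟩ := σ.exists_rep p
    let wh : W₀.left ⟶ S := W₀.hom
    have hm' : m ≫ wh = v ≫ c := hm
    haveI : Etale wh := W₀.prop
    let W := pullback b wh
    let w : W ⟶ T := pullback.fst b wh
    haveI : Etale w := MorphismProperty.pullback_fst _ _ ‹Etale wh›
    let ρ : Secs (w ≫ b) F := Secs.ofSect (pullback.snd b wh) (pullback.condition (f := b) (g := wh)).symm s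
    have hφ : pullback.fst a w ≫ c = pullback.snd a w ≫ w ≫ b := by rw [← e, pullback.condition_assoc]
    let E := Secs.eqLocus (σ.res (pullback.fst a w) hφ) (ρ.res (pullback.snd a w) rfl)
    have hsat := isSaturated_of_compat hσ e w ρ
    let O : W.Opens := ⟨(pullback.snd a w).base '' E,
      ((hq W w ‹Etale w›).isOpen_preimage).1 (by rw [hsat]; exact Secs.isOpen_eqLocus _ _)⟩
    let pw : Spec (CommRingCat.of Ω) ⟶ W := pullback.lift (p ≫ a) (p' ≫ m) (by
      rw [Category.assoc p' m, hm', ← Category.assoc p' v, hp, Category.assoc p a b, e])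
    let pz : Spec (CommRingCat.of Ω) ⟶ pullback a w := pullback.lift p pw (pullback.lift_fst _ _ _).symm
    have hE : pz.base default ∈ E := by
      refine (Secs.mem_eqLocus_iff _ _ pz (p ≫ c) ?_).2 ?_
      · rw [← hφ, pullback.lift_fst_assoc]
      have h1 : (p' ≫ v) ≫ c = p ≫ c := by rw [hp]
      refine (σ.val_congr ((pullback.lift_fst _ _ _).trans hp.symm) _ h1).trans ((hs Ω p' _ h1).trans ?_)
      exact gSh_congr (((congrArg (· ≫ pullback.snd b wh) (pullback.lift_snd _ _ _)).trans (pullback.lift_snd _ _ _)).symm) _ _ s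
    have hO : pw.base default ∈ O := ⟨_, hE,
      congrArg (fun k : Spec (CommRingCat.of Ω) ⟶ W => k.base default) (pullback.lift_snd _ _ _)⟩
    haveI : Etale (O.ι ≫ w) := inferInstance
    refine ⟨O, O.ι ≫ w, inferInstance, ⟨_, hO⟩, ρ.res O.ι (Category.assoc _ _ _).symm, ?_, fun y => ?_⟩
    · exact congrArg (fun k : Spec (CommRingCat.of Ω) ⟶ T => k.base default) (pullback.lift_fst _ _ _)
    obtain ⟨Ω', _, _, q, rfl⟩ := Secs.exists_point y
    let η := (q ≫ pullback.fst a (O.ι ≫ w)) ≫ c
    have hη : q ≫ pullback.snd a (O.ι ≫ w) ≫ (O.ι ≫ w) ≫ b = η := by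
      simp only [η, Category.assoc]; rw [← e, pullback.condition_assoc, Category.assoc]
    refine (Secs.mem_eqLocus_iff _ _ q η hη).2 ?_
    let q₂ : Spec (CommRingCat.of Ω') ⟶ pullback a w := pullback.lift (q ≫ pullback.fst a (O.ι ≫ w))
      ((q ≫ pullback.snd a (O.ι ≫ w)) ≫ O.ι) (by rw [Category.assoc, pullback.condition]; simp)
    have hq₂ : q₂.base default ∈ E := by
      refine hsat.le ?_
      have : (pullback.snd a w).base (q₂.base default) = O.ι.base ((q ≫ pullback.snd a (O.ι ≫ w)).base default) :=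
        congrArg (fun k : Spec (CommRingCat.of Ω') ⟶ W => k.base default) (pullback.lift_snd _ _ _)
      exact Set.mem_preimage.2 (Set.mem_of_eq_of_mem this ((q ≫ pullback.snd a (O.ι ≫ w)).base default).2)
    have h2 : q₂ ≫ pullback.snd a w ≫ w ≫ b = η := by
      rw [pullback.lift_snd_assoc, ← hη]; simp
    refine (σ.val_congr (pullback.lift_fst (f := a) (g := w) _ _ _).symm _ ?_).trans
      (((Secs.mem_eqLocus_iff _ _ q₂ η h2).1 hq₂).trans (ρ.val_congr (pullback.lift_snd _ _ _) ?_ ?_))
    · rw [Category.assoc q₂, hφ]; exact h2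
    · rw [Category.assoc q₂]; exact h2
    · rw [← hη]; simp only [Category.assoc]
  choose W w hw x ρ hx hρ using loc
  obtain ⟨s, hs⟩ := Secs.exists_glue W w hw (fun t => ⟨t, x t, hx t⟩) ρ
    (fun i j Ω _ _ p q η hp hq' hpq => by
      haveI := hw i
      haveI := hw j
      let pij : Spec (CommRingCat.of Ω) ⟶ pullback (w i) (w j) := pullback.lift p q hpq
      have hπ : pullback.snd (w i) (w j) ≫ w j ≫ b = pullback.fst (w i) (w j) ≫ w i ≫ b :=
        (pullback.condition_assoc _).symm
      have h : pij ≫ pullback.fst (w i) (w j) ≫ w i ≫ b = η := by rw [pullback.lift_fst_assoc, hp]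
      have key : (ρ i).res (pullback.fst (w i) (w j)) rfl = (ρ j).res (pullback.snd (w i) (w j)) hπ := by
        refine Secs.eq_of_eqLocus _ _ fun z => ?_
        obtain ⟨z₀, hz₀⟩ := a.surjective ((w i).base ((pullback.fst (w i) (w j)).base z))
        obtain ⟨y, hy₁, hy₂⟩ := Scheme.Pullback.exists_preimage_pullback (f := pullback.fst (w i) (w j) ≫ w i) (g := a)
          z z₀ hz₀.symm
        obtain ⟨Ω', _, _, r, rfl⟩ := Secs.exists_point y
        let P := pullback.fst (pullback.fst (w i) (w j) ≫ w i) a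
        let Q := pullback.snd (pullback.fst (w i) (w j) ≫ w i) a
        rw [← hy₁]
        let η' := (r ≫ Q) ≫ c
        have hr : (r ≫ Q) ≫ a = ((r ≫ P) ≫ pullback.fst (w i) (w j)) ≫ w i := by
          simp only [P, Q, Category.assoc, ← pullback.condition]
        have hrj : (r ≫ Q) ≫ a = ((r ≫ P) ≫ pullback.snd (w i) (w j)) ≫ w j := by
          rw [hr]; simp only [Category.assoc, pullback.condition (f := w i) (g := w j)]
        have hη' : (r ≫ P) ≫ pullback.fst (w i) (w j) ≫ w i ≫ b = η' := by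
          simp only [η', ← e]
          rw [← Category.assoc (r ≫ Q), hr]; simp only [Category.assoc]
        refine (Secs.mem_eqLocus_iff _ _ (r ≫ P) η' hη').2 ?_
        let ri : Spec (CommRingCat.of Ω') ⟶ pullback a (w i) := pullback.lift (r ≫ Q) ((r ≫ P) ≫ pullback.fst (w i) (w j)) hr
        let rj : Spec (CommRingCat.of Ω') ⟶ pullback a (w j) := pullback.lift (r ≫ Q) ((r ≫ P) ≫ pullback.snd (w i) (w j)) hrj
        have hi : ri ≫ pullback.snd a (w i) ≫ w i ≫ b = η' := by
          rw [pullback.lift_snd_assoc, ← hη']; simp only [Category.assoc]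
        have hj : rj ≫ pullback.snd a (w j) ≫ w j ≫ b = η' := by
          rw [pullback.lift_snd_assoc, ← hη', ← hπ]; simp only [Category.assoc]
        have ei := (Secs.mem_eqLocus_iff _ _ ri η' hi).1 (hρ i _)
        have ej := (Secs.mem_eqLocus_iff _ _ rj η' hj).1 (hρ j _)
        refine ((ρ i).val_congr (pullback.lift_snd _ _ _).symm _ ((Category.assoc _ _ _).trans hi)).trans
          (ei.symm.trans ((σ.val_congr ?_ _ _).trans (ej.trans ((ρ j).val_congr (pullback.lift_snd _ _ _) _ _))))
        rw [pullback.lift_fst, pullback.lift_fst]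
      have h' := congrArg (fun t : Secs _ F => t.val Ω pij η h) key
      exact ((ρ i).val_congr (pullback.lift_fst _ _ _).symm hp _).trans
        (h'.trans ((ρ j).val_congr (pullback.lift_snd _ _ _) _ hq')))
  refine ⟨s, Secs.ext' fun Ω _ _ p η h => ?_⟩
  let t := a.base (p.base default)
  haveI := hw t
  obtain ⟨q, hq', -⟩ := exists_lift (w t) (p ≫ a) (x t) (hx t)
  let r : Spec (CommRingCat.of Ω) ⟶ pullback a (w t) := pullback.lift p q hq'.symm
  have h0 : q ≫ w t ≫ b = η := by rw [← Category.assoc, hq', Category.assoc, e, h]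
  have hr : r ≫ pullback.snd a (w t) ≫ w t ≫ b = η := by rw [pullback.lift_snd_assoc, h0]
  have e1 := congrArg (fun ρ' : Secs (w t ≫ b) F => ρ'.val Ω q η h0) (hs t)
  refine (s.val_congr hq'.symm _ ((Category.assoc _ _ _).trans h0)).trans (e1.trans ?_)
  exact ((ρ t).val_congr (pullback.lift_snd _ _ _).symm h0 _).trans
    (((Secs.mem_eqLocus_iff _ _ r η hr).1 (hρ t _)).symm.trans (σ.val_congr (pullback.lift_fst _ _ _) _ h))

theorem hasQuotientBC_of_univSubmersive (h : EtDesc.IsUnivSubmersive a) : HasQuotientBC a :=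
  fun W w _ => (h W w).2

end GrothLib.EtDescent
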