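import Groth.Agent.Lib.EtDescent.Datum
import Groth.Agent.Lib.EtDescent.Descend
import Groth.Prelude.Def_EtCore

/-!
# The canonical descent datum, read on geometric points
-/

universe u

open CategoryTheory CategoryTheory.Limits AlgebraicGeometry Opposite
open GrothLib.EtSite GrothLib.EtSec

set_option backward.isDefEq.respectTransparency.types false

noncomputable section

namespace GrothLib.EtDescent

variable {X' X : Scheme.{u}} (f : X' ⟶ X) {Ω : Type u} [Field Ω] [IsSepClosed Ω]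

theorem pst_canIso (F : EtDesc.Sh X) (q : Spec (CommRingCat.of Ω) ⟶ EtDesc.X2 f)
    {p₁ p₂ : Spec (CommRingCat.of Ω) ⟶ X'} {η : Spec (CommRingCat.of Ω) ⟶ X}
    (h₁ : q ≫ pullback.fst f f = p₁) (h₂ : q ≫ pullback.snd f f = p₂) (e₁ : p₁ ≫ f = η) (e₂ : p₂ ≫ f = η)
    (y : (stalkSh q).obj ((EtDesc.pullSh (pullback.fst f f)).obj ((EtDesc.pullSh f).obj F))) :
    pst f F e₂ (pst (pullback.snd f f) _ h₂ ((stalkSh q).map (EtDesc.canIso f F).hom y)) =
      pst f F e₁ (pst (pullback.fst f f) _ h₁ y) := by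
  have hb : q ≫ pullback.fst f f ≫ f = η := (Category.assoc _ _ _).symm.trans ((congrArg (· ≫ f) h₁).trans e₁)
  rw [← pst_pullVia (pullback.fst f f) f (pullback.fst f f ≫ f) rfl F h₁ e₁ hb,
    ← pst_pullVia (pullback.snd f f) f (pullback.fst f f ≫ f) pullback.condition.symm F h₂ e₂ hb,
    ← ConcreteCategory.comp_apply, ← Functor.map_comp]
  refine congrArg (pst _ F hb) (ConcreteCategory.congr_hom (congrArg (stalkSh q).map ?_) y)
  simp [EtDesc.canIso]

/-- Morphisms compatible with the canonical data respect equality after projection to the base. -/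
theorem pst_eq_of_compat {F G : EtDesc.Sh X} {a : (EtDesc.pullSh f).obj F ⟶ (EtDesc.pullSh f).obj G}
    (ha : (EtDesc.canIso f F).hom ≫ (EtDesc.pullSh (pullback.snd f f)).map a =
      (EtDesc.pullSh (pullback.fst f f)).map a ≫ (EtDesc.canIso f G).hom)
    {p₁ p₂ : Spec (CommRingCat.of Ω) ⟶ X'} {η : Spec (CommRingCat.of Ω) ⟶ X} (e₁ : p₁ ≫ f = η) (e₂ : p₂ ≫ f = η)
    (y₁ : (stalkSh p₁).obj ((EtDesc.pullSh f).obj F)) (y₂ : (stalkSh p₂).obj ((EtDesc.pullSh f).obj F))
    (hy : pst f F e₁ y₁ = pst f F e₂ y₂) :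
    pst f G e₁ ((stalkSh p₁).map a y₁) = pst f G e₂ ((stalkSh p₂).map a y₂) := by
  let q : Spec (CommRingCat.of Ω) ⟶ EtDesc.X2 f := pullback.lift p₁ p₂ (e₁.trans e₂.symm)
  have h₁ : q ≫ pullback.fst f f = p₁ := pullback.lift_fst _ _ _
  have h₂ : q ≫ pullback.snd f f = p₂ := pullback.lift_snd _ _ _
  obtain ⟨z, rfl⟩ := (pst_bijective (pullback.fst f f) _ h₁).surjective y₁
  have hy₂ : y₂ = pst (pullback.snd f f) _ h₂ ((stalkSh q).map (EtDesc.canIso f F).hom z) :=
    (pst_bijective f F e₂).injective (hy.symm.trans (pst_canIso f F q h₁ h₂ e₁ e₂ z).symm)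
  subst hy₂
  rw [← pst_map (pullback.fst f f) a h₁, ← pst_canIso f G q h₁ h₂ e₁ e₂, ← pst_map (pullback.snd f f) a h₂,
    ← ConcreteCategory.comp_apply, ← Functor.map_comp, ← ha, Functor.map_comp, ConcreteCategory.comp_apply]

section secPull

variable {Z Y : Scheme.{u}} (g : Z ⟶ Y) (G : EtDesc.Sh Y)

theorem bcTopIso_inv_fst : (EtCore.bcTopIso g).inv.left ≫ pullback.fst (EtCoh.top Y).hom g = g := by
  have h : ((EtCore.bcTopIso g).inv.left ≫ pullback.fst (EtCoh.top Y).hom g) ≫ (EtCoh.top Y).hom =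
      (EtCoh.top Z).hom ≫ g :=
    (Category.assoc _ _ _).trans ((congrArg (_ ≫ ·) (bc_cond g (EtCoh.top Y))).trans
      ((Category.assoc _ _ _).symm.trans (congrArg (· ≫ g) (hom_left (EtCore.bcTopIso g).inv))))
  exact (Category.comp_id _).symm.trans (h.trans (Category.id_comp g))

/-- The germs of a pulled back section. -/
theorem pst_secPull (p : Spec (CommRingCat.of Ω) ⟶ (EtCoh.top Z).left) {ξ : Spec (CommRingCat.of Ω) ⟶ Z}
    (hp : p ≫ (EtCoh.top Z).hom = ξ) {η : Spec (CommRingCat.of Ω) ⟶ Y} (e : ξ ≫ g = η)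
    (h : (p ≫ g) ≫ (EtCoh.top Y).hom = η) (s : EtDesc.sect G (EtCoh.top Y)) :
    pst g G e (gSh ((EtDesc.pullSh g).obj G) p hp (EtDesc.secPull g G s)) =
      gSh G (W := EtCoh.top Y) (p ≫ g) h s := by
  have hl : (p ≫ (EtCore.bcTopIso g).inv.left) ≫ ((EtCoh.bc g).obj (EtCoh.top Y)).hom = ξ :=
    (Category.assoc _ _ _).trans ((congrArg (p ≫ ·) (hom_left (EtCore.bcTopIso g).inv)).trans hp)
  have hf : (p ≫ (EtCore.bcTopIso g).inv.left) ≫ pullback.fst (EtCoh.top Y).hom g = p ≫ g :=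
    (Category.assoc _ _ _).trans (congrArg (p ≫ ·) (bcTopIso_inv_fst g))
  refine (congrArg (pst g G e) (gSh_map (EtCore.bcTopIso g).inv p hp hl _)).trans ?_
  exact (pst_unit g G e _ hl ((congrArg (· ≫ (EtCoh.top Y).hom) hf).trans h) s).trans (gSh_congr hf _ _ s)

theorem toSecs_secPull (s : EtDesc.sect G (EtCoh.top Y))
    (e : g ≫ (EtCoh.top Y).hom = (EtCoh.top Z).hom ≫ g) :
    toSecs g G (EtDesc.secPull g G s) = (secOf G s).res (Z' := (EtCoh.top Z).left) g e :=
  Secs.ext' fun Ω _ _ p η h => by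
    rw [toSecs_val g G _ Ω p rfl η h, Secs.res_val, secOf_val]
    exact pst_secPull g G p rfl _ _ s

end secPull

end GrothLib.EtDescent
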