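import Groth.Agent.Lib.EtDescent.Pst

/-!
# Descent data read on geometric points

A descent datum `φ` for `F'` along `f : X' ⟶ X` is a family of bijections between the stalks of
`F'` at geometric points with the same image in `X`; it is transitive by the cocycle condition and
carries sections to sections.
-/

universe u

open CategoryTheory CategoryTheory.Limits AlgebraicGeometry Opposite
open GrothLib.EtSite GrothLib.EtSec

set_option backward.isDefEq.respectTransparency.types false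

noncomputable section

namespace GrothLib.EtSec.Secs

variable {Z S : Scheme.{u}} {a : Z ⟶ S} {F : EtDesc.Sh S}

/-- Being a section is local. -/
theorem isLocSec_of_local (val : PtFun a F)
    (h : ∀ z : Z, ∃ (V : Scheme.{u}) (v : V ⟶ Z) (_ : Etale v) (z' : V) (τ : Secs (v ≫ a) F), v.base z' = z ∧
      ∀ (Ω : Type u) [Field Ω] [IsSepClosed Ω] (q : Spec (CommRingCat.of Ω) ⟶ V)
        (η : Spec (CommRingCat.of Ω) ⟶ S) (hq : (q ≫ v) ≫ a = η),
        val Ω (q ≫ v) η hq = τ.val Ω q η ((Category.assoc q v a).symm.trans hq)) :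
    IsLocSec a F val := fun z => by
  obtain ⟨V, v, hv, z', τ, hz, hτ⟩ := h z
  obtain ⟨V', v', hv', z'', W, m, hm, t, hz', ht⟩ := τ.loc z'
  refine ⟨V', v' ≫ v, inferInstance, z'', W, m, hm.trans (Category.assoc _ _ _).symm, t,
    (congrArg v.base hz').trans hz, fun Ω _ _ q η hq => ?_⟩
  have hq' : ((q ≫ v') ≫ v) ≫ a = η := (congrArg (· ≫ a) (Category.assoc _ _ _)).trans hq
  have e : val Ω (q ≫ v' ≫ v) η hq = val Ω ((q ≫ v') ≫ v) η hq' := by congr 1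
  exact e.trans ((hτ Ω (q ≫ v') η hq').trans (ht Ω q η ((Category.assoc _ _ _).symm.trans hq')))

end GrothLib.EtSec.Secs

namespace GrothLib.EtDescent

section pull

variable {Y S : Scheme.{u}} (h : Y ⟶ S) (F : EtDesc.Sh S)

/-- The stalks of an inverse image and the stalks of the sheaf. -/
def pstEquiv {Ω : Type u} [Field Ω] [IsSepClosed Ω] {ξ : Spec (CommRingCat.of Ω) ⟶ Y}
    {η : Spec (CommRingCat.of Ω) ⟶ S} (e : ξ ≫ h = η) :
    (stalkSh ξ).obj ((EtDesc.pullSh h).obj F) ≃ (stalkSh η).obj F :=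
  Equiv.ofBijective _ (pst_bijective h F e)

theorem pstEquiv_apply {Ω : Type u} [Field Ω] [IsSepClosed Ω] {ξ : Spec (CommRingCat.of Ω) ⟶ Y}
    {η : Spec (CommRingCat.of Ω) ⟶ S} (e : ξ ≫ h = η) (y : (stalkSh ξ).obj ((EtDesc.pullSh h).obj F)) :
    pstEquiv h F e y = pst h F e y := rfl

theorem toSecs_val {U : Y.Etale} (s : EtDesc.sect ((EtDesc.pullSh h).obj F) U) (Ω : Type u) [Field Ω]
    [IsSepClosed Ω] (p : Spec (CommRingCat.of Ω) ⟶ U.left) {ξ : Spec (CommRingCat.of Ω) ⟶ Y}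
    (hp : p ≫ U.hom = ξ) (η : Spec (CommRingCat.of Ω) ⟶ S) (e : p ≫ U.hom ≫ h = η) :
    (toSecs h F s).val Ω p η e =
      pst h F ((congrArg (· ≫ h) hp.symm).trans ((Category.assoc _ _ _).trans e))
        (gSh ((EtDesc.pullSh h).obj F) p hp s) := by
  obtain rfl : ξ ≫ h = η := (congrArg (· ≫ h) hp.symm).trans ((Category.assoc _ _ _).trans e)
  exact pullVal_eq h F s p hp e

variable {h F} {Z : Scheme.{u}} {a : Z ⟶ Y}

/-- Sections of an inverse image are sections relative to the composite. -/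
def pushSecs {b : Z ⟶ S} (e : a ≫ h = b) (σ : Secs a ((EtDesc.pullSh h).obj F)) : Secs b F where
  val Ω _ _ p η hp := pst h F ((Category.assoc _ _ _).trans ((congrArg (p ≫ ·) e).trans hp))
    (σ.val Ω p (p ≫ a) rfl)
  loc := Secs.isLocSec_of_local _ fun z => by
    obtain ⟨V, v, hv, z', W, m, hm, t, hz, ht⟩ := σ.loc z
    have e' : m ≫ W.hom ≫ h = v ≫ b :=
      (Category.assoc _ _ _).symm.trans ((congrArg (· ≫ h) hm).trans
        ((Category.assoc _ _ _).trans (congrArg (v ≫ ·) e)))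
    refine ⟨V, v, hv, z', (toSecs h F t).res m e', hz, fun Ω _ _ q η hq => ?_⟩
    have hqm : (q ≫ m) ≫ W.hom = (q ≫ v) ≫ a :=
      (Category.assoc _ _ _).trans ((congrArg (q ≫ ·) hm).trans (Category.assoc _ _ _).symm)
    refine Eq.trans (congrArg (pst h F _) (ht Ω q ((q ≫ v) ≫ a) rfl)) ?_
    exact (toSecs_val h F t Ω (q ≫ m) hqm η
      ((Category.assoc _ _ _).trans ((congrArg (q ≫ ·) e').trans ((Category.assoc _ _ _).symm.trans hq)))).symm

theorem pushSecs_val {b : Z ⟶ S} (e : a ≫ h = b) (σ : Secs a ((EtDesc.pullSh h).obj F)) (Ω : Type u)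
    [Field Ω] [IsSepClosed Ω] (p : Spec (CommRingCat.of Ω) ⟶ Z) {ξ : Spec (CommRingCat.of Ω) ⟶ Y}
    (hξ : p ≫ a = ξ) (η : Spec (CommRingCat.of Ω) ⟶ S) (hp : p ≫ b = η) :
    (pushSecs e σ).val Ω p η hp = pst h F ((congrArg (· ≫ h) hξ.symm).trans
      ((Category.assoc _ _ _).trans ((congrArg (p ≫ ·) e).trans hp))) (σ.val Ω p ξ hξ) := by
  subst hξ; rfl

/-- Sections relative to a composite are sections of the inverse image. -/
def pullSecs {b : Z ⟶ S} (e : a ≫ h = b) (σ : Secs b F) : Secs a ((EtDesc.pullSh h).obj F) where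
  val Ω _ _ p ξ hξ := (pstEquiv h F (η := p ≫ b)
    ((congrArg (· ≫ h) hξ.symm).trans ((Category.assoc _ _ _).trans (congrArg (p ≫ ·) e)))).symm
      (σ.val Ω p (p ≫ b) rfl)
  loc z := by
    obtain ⟨V, v, hv, z', W, m, hm, t, hz, ht⟩ := σ.loc z
    have hm' : m ≫ W.hom = (v ≫ a) ≫ h :=
      hm.trans ((congrArg (v ≫ ·) e.symm).trans (Category.assoc _ _ _).symm)
    refine ⟨V, v, hv, z', (EtCoh.bc h).obj W, pullback.lift m (v ≫ a) hm', pullback.lift_snd _ _ _,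
      ((EtDesc.adjSh h).unit.app F).hom.app (op W) t, hz, fun Ω _ _ q ξ hq => ?_⟩
    rw [Equiv.symm_apply_eq, pstEquiv_apply]
    refine Eq.trans (ht Ω q ((q ≫ v) ≫ b) rfl) (Eq.symm ?_)
    have hl : (q ≫ pullback.lift m (v ≫ a) hm') ≫ pullback.fst W.hom h = q ≫ m :=
      (Category.assoc _ _ _).trans (congrArg (q ≫ ·) (pullback.lift_fst _ _ _))
    exact (pst_unit h F _ (q ≫ pullback.lift m (v ≫ a) hm') _ ((congrArg (· ≫ W.hom) hl).trans
      ((Category.assoc _ _ _).trans ((congrArg (q ≫ ·) hm).trans (Category.assoc _ _ _).symm))) t).trans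
      (gSh_congr hl _ _ t)

theorem pst_pullSecs_val {b : Z ⟶ S} (e : a ≫ h = b) (σ : Secs b F) (Ω : Type u)
    [Field Ω] [IsSepClosed Ω] (p : Spec (CommRingCat.of Ω) ⟶ Z) (ξ : Spec (CommRingCat.of Ω) ⟶ Y)
    (hξ : p ≫ a = ξ) (η : Spec (CommRingCat.of Ω) ⟶ S) (hη : ξ ≫ h = η) :
    pst h F hη ((pullSecs e σ).val Ω p ξ hξ) = σ.val Ω p η ((congrArg (p ≫ ·) e.symm).trans
      ((Category.assoc _ _ _).symm.trans ((congrArg (· ≫ h) hξ).trans hη))) := by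
  obtain rfl : p ≫ b = η := (congrArg (p ≫ ·) e.symm).trans
    ((Category.assoc _ _ _).symm.trans ((congrArg (· ≫ h) hξ).trans hη))
  exact (pstEquiv h F hη).apply_symm_apply _

theorem pushSecs_pullSecs {b : Z ⟶ S} (e : a ≫ h = b) (σ : Secs b F) :
    pushSecs e (pullSecs e σ) = σ :=
  Secs.ext' fun Ω _ _ p η hp => by
    rw [pushSecs_val e _ Ω p rfl η hp, pst_pullSecs_val]

theorem pullSecs_pushSecs {b : Z ⟶ S} (e : a ≫ h = b) (σ : Secs a ((EtDesc.pullSh h).obj F)) :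
    pullSecs e (pushSecs e σ) = σ :=
  Secs.ext' fun Ω _ _ p ξ hξ => (pst_bijective h F (η := p ≫ b)
    ((congrArg (· ≫ h) hξ.symm).trans ((Category.assoc _ _ _).trans (congrArg (p ≫ ·) e)))).injective
    ((pst_pullSecs_val e _ Ω p ξ hξ _ _).trans (pushSecs_val e σ Ω p hξ _ rfl))

theorem res_pushSecs {Z' : Scheme.{u}} (c : Z' ⟶ Z) {a' : Z' ⟶ Y} (ca : c ≫ a = a') {b : Z ⟶ S}
    (e : a ≫ h = b) {b' : Z' ⟶ S} (cb : c ≫ b = b') (σ : Secs a ((EtDesc.pullSh h).obj F)) :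
    (pushSecs e σ).res c cb =
      pushSecs ((congrArg (· ≫ h) ca.symm).trans ((Category.assoc _ _ _).trans ((congrArg (c ≫ ·) e).trans cb)))
        (σ.res c ca) :=
  Secs.ext' fun Ω _ _ p η hp => by
    rw [Secs.res_val, pushSecs_val _ _ Ω p rfl η hp, pushSecs_val e σ Ω (p ≫ c)
      ((Category.assoc _ _ _).trans (congrArg (p ≫ ·) ca)) η, Secs.res_val]

theorem res_pullSecs {Z' : Scheme.{u}} (c : Z' ⟶ Z) {a' : Z' ⟶ Y} (ca : c ≫ a = a') {b : Z ⟶ S}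
    (e : a ≫ h = b) {b' : Z' ⟶ S} (cb : c ≫ b = b') (σ : Secs b F) :
    (pullSecs e σ).res c ca =
      pullSecs ((congrArg (· ≫ h) ca.symm).trans ((Category.assoc _ _ _).trans ((congrArg (c ≫ ·) e).trans cb)))
        (σ.res c cb) :=
  Secs.ext' fun Ω _ _ p ξ hξ => (pst_bijective h F rfl).injective (by
    rw [Secs.res_val, pst_pullSecs_val, pst_pullSecs_val, Secs.res_val])

end pull

variable {X' X : Scheme.{u}} {f : X' ⟶ X} {F' : EtDesc.Sh X'}

section transport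

variable (φ : (EtDesc.pullSh (pullback.fst f f)).obj F' ≅ (EtDesc.pullSh (pullback.snd f f)).obj F')
  {Ω : Type u} [Field Ω] [IsSepClosed Ω]

/-- Transport of stalks by a descent datum. -/
def trans {p₁ p₂ : Spec (CommRingCat.of Ω) ⟶ X'} (h : p₁ ≫ f = p₂ ≫ f) (y : (stalkSh p₁).obj F') :
    (stalkSh p₂).obj F' :=
  pst (pullback.snd f f) F' (pullback.lift_snd p₁ p₂ h)
    ((stalkSh (pullback.lift p₁ p₂ h)).map φ.hom
      ((pstEquiv (pullback.fst f f) F' (pullback.lift_fst p₁ p₂ h)).symm y))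

theorem trans_bijective {p₁ p₂ : Spec (CommRingCat.of Ω) ⟶ X'} (h : p₁ ≫ f = p₂ ≫ f) :
    Function.Bijective (trans φ h) :=
  (pst_bijective _ _ _).comp ((ConcreteCategory.bijective_of_isIso
    ((stalkSh (pullback.lift p₁ p₂ h)).map φ.hom)).comp (pstEquiv _ _ _).symm.bijective)

theorem trans_pst (q : Spec (CommRingCat.of Ω) ⟶ EtDesc.X2 f) {p₁ p₂ : Spec (CommRingCat.of Ω) ⟶ X'}
    (h₁ : q ≫ pullback.fst f f = p₁) (h₂ : q ≫ pullback.snd f f = p₂) (h : p₁ ≫ f = p₂ ≫ f)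
    (y : (stalkSh q).obj ((EtDesc.pullSh (pullback.fst f f)).obj F')) :
    trans φ h (pst (pullback.fst f f) F' h₁ y) = pst (pullback.snd f f) F' h₂ ((stalkSh q).map φ.hom y) := by
  obtain rfl : q = pullback.lift p₁ p₂ h :=
    pullback.hom_ext (h₁.trans (pullback.lift_fst _ _ _).symm) (h₂.trans (pullback.lift_snd _ _ _).symm)
  rw [trans, show pst (pullback.fst f f) F' h₁ y = pstEquiv _ _ h₁ y from rfl, Equiv.symm_apply_apply]

theorem trans_congr {p₁ p₁' p₂ p₂' : Spec (CommRingCat.of Ω) ⟶ X'} (e₁ : p₁ = p₁') (e₂ : p₂ = p₂')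
    (h : p₁ ≫ f = p₂ ≫ f) (y : (stalkSh p₁).obj F') :
    e₂ ▸ trans φ h y = trans φ (e₁ ▸ e₂ ▸ h : p₁' ≫ f = p₂' ≫ f) (e₁ ▸ y) := by
  subst e₁ e₂; rfl

theorem pst_pullIsoVia (g : EtDesc.X3 f ⟶ EtDesc.X2 f) (b₁ b₂ : EtDesc.X3 f ⟶ X')
    (w₁ : g ≫ pullback.fst f f = b₁) (w₂ : g ≫ pullback.snd f f = b₂)
    (t : Spec (CommRingCat.of Ω) ⟶ EtDesc.X3 f) {p₁ p₂ : Spec (CommRingCat.of Ω) ⟶ X'}
    (h₁ : t ≫ b₁ = p₁) (h₂ : t ≫ b₂ = p₂) (h : p₁ ≫ f = p₂ ≫ f)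
    (z : (stalkSh t).obj ((EtDesc.pullSh b₁).obj F')) :
    pst b₂ F' h₂ ((stalkSh t).map (EtDesc.pullIsoVia g b₁ b₂ w₁ w₂ F' φ).hom z) =
      trans φ h (pst b₁ F' h₁ z) := by
  obtain ⟨z', rfl⟩ := (ConcreteCategory.bijective_of_isIso
    ((stalkSh t).map (EtDesc.pullVia g (pullback.fst f f) b₁ w₁ F').hom)).surjective z
  have e₁ : (t ≫ g) ≫ pullback.fst f f = p₁ := (Category.assoc _ _ _).trans ((congrArg (t ≫ ·) w₁).trans h₁)
  have e₂ : (t ≫ g) ≫ pullback.snd f f = p₂ := (Category.assoc _ _ _).trans ((congrArg (t ≫ ·) w₂).trans h₂)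
  rw [pst_pullVia g (pullback.fst f f) b₁ w₁ F' rfl e₁ h₁, trans_pst φ (t ≫ g) e₁ e₂, ← pst_map g φ.hom rfl,
    ← pst_pullVia g (pullback.snd f f) b₂ w₂ F' rfl e₂ h₂]
  refine congrArg (pst b₂ F' h₂) ?_
  rw [← ConcreteCategory.comp_apply, ← Functor.map_comp, ← ConcreteCategory.comp_apply, ← Functor.map_comp]
  have key : (EtDesc.pullVia g (pullback.fst f f) b₁ w₁ F').hom ≫ (EtDesc.pullIsoVia g b₁ b₂ w₁ w₂ F' φ).hom =
      (EtDesc.pullSh g).map φ.hom ≫ (EtDesc.pullVia g (pullback.snd f f) b₂ w₂ F').hom :=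
    Iso.hom_inv_id_assoc _ _
  exact ConcreteCategory.congr_hom (congrArg (stalkSh t).map key) z'

variable {φ} (hφ : EtDesc.IsCocycle F' φ)

include hφ in
theorem trans_trans {p₁ p₂ p₃ : Spec (CommRingCat.of Ω) ⟶ X'} (h₁₂ : p₁ ≫ f = p₂ ≫ f) (h₂₃ : p₂ ≫ f = p₃ ≫ f)
    (h₁₃ : p₁ ≫ f = p₃ ≫ f) (y : (stalkSh p₁).obj F') :
    trans φ h₂₃ (trans φ h₁₂ y) = trans φ h₁₃ y := by
  let t : Spec (CommRingCat.of Ω) ⟶ EtDesc.X3 f := pullback.lift (pullback.lift p₁ p₂ h₁₂) (pullback.lift p₂ p₃ h₂₃)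
    ((pullback.lift_snd _ _ _).trans (pullback.lift_fst _ _ _).symm)
  have a : t ≫ EtDesc.p12 f = pullback.lift p₁ p₂ h₁₂ := pullback.lift_fst _ _ _
  have b : t ≫ EtDesc.p23 f = pullback.lift p₂ p₃ h₂₃ := pullback.lift_snd _ _ _
  have t₁ : t ≫ EtDesc.q1 = p₁ :=
    (Category.assoc _ _ _).symm.trans ((congrArg (· ≫ _) a).trans (pullback.lift_fst _ _ _))
  have t₂ : t ≫ EtDesc.q2 = p₂ :=
    (Category.assoc _ _ _).symm.trans ((congrArg (· ≫ _) a).trans (pullback.lift_snd _ _ _))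
  have t₃ : t ≫ EtDesc.q3 = p₃ :=
    (Category.assoc _ _ _).symm.trans ((congrArg (· ≫ _) b).trans (pullback.lift_snd _ _ _))
  obtain ⟨z, rfl⟩ := (pst_bijective EtDesc.q1 F' t₁).surjective y
  rw [← pst_pullIsoVia φ (EtDesc.p12 f) EtDesc.q1 EtDesc.q2 rfl rfl t t₁ t₂ h₁₂,
    ← pst_pullIsoVia φ (EtDesc.p23 f) EtDesc.q2 EtDesc.q3 EtDesc.p23_fst rfl t t₂ t₃ h₂₃,
    ← pst_pullIsoVia φ (EtDesc.p13 f) EtDesc.q1 EtDesc.q3 EtDesc.p13_fst EtDesc.p13_snd t t₁ t₃ h₁₃,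
    ← ConcreteCategory.comp_apply, ← Functor.map_comp, hφ]

include hφ in
theorem trans_self {p : Spec (CommRingCat.of Ω) ⟶ X'} (h : p ≫ f = p ≫ f) (y : (stalkSh p).obj F') :
    trans φ h y = y :=
  (trans_bijective φ h).injective (trans_trans hφ h h h y)

end transport

/-- Transport of sections by a descent datum. -/
def transSecs (φ : (EtDesc.pullSh (pullback.fst f f)).obj F' ≅ (EtDesc.pullSh (pullback.snd f f)).obj F')
    {Z : Scheme.{u}} {a₁ a₂ : Z ⟶ X'} (h : a₁ ≫ f = a₂ ≫ f) (σ : Secs a₁ F') : Secs a₂ F' where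
  val Ω _ _ p η hp := trans φ (p₁ := p ≫ a₁) (p₂ := η)
    ((Category.assoc _ _ _).trans ((congrArg (p ≫ ·) h).trans ((Category.assoc _ _ _).symm.trans (congrArg (· ≫ f) hp))))
    (σ.val Ω p (p ≫ a₁) rfl)
  loc := Secs.isLocSec_of_local _ fun z => by
    obtain ⟨V, v, hv, z', W, m, hm, t, hz, ht⟩ := σ.loc z
    let q : V ⟶ EtDesc.X2 f := v ≫ pullback.lift a₁ a₂ h
    have q₁ : q ≫ pullback.fst f f = v ≫ a₁ :=
      (Category.assoc _ _ _).trans (congrArg (v ≫ ·) (pullback.lift_fst _ _ _))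
    have q₂ : q ≫ pullback.snd f f = v ≫ a₂ :=
      (Category.assoc _ _ _).trans (congrArg (v ≫ ·) (pullback.lift_snd _ _ _))
    let U := (EtCoh.bc (pullback.fst f f)).obj W
    let μ : V ⟶ U.left := pullback.lift m q (hm.trans q₁.symm)
    let s := φ.hom.hom.app (op U) (((EtDesc.adjSh (pullback.fst f f)).unit.app F').hom.app (op W) t)
    have hμ : μ ≫ U.hom = q := pullback.lift_snd _ _ _
    have e' : μ ≫ U.hom ≫ pullback.snd f f = v ≫ a₂ :=
      (Category.assoc _ _ _).symm.trans ((congrArg (· ≫ _) hμ).trans q₂)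
    refine ⟨V, v, hv, z', (toSecs _ F' s).res μ e', hz, fun Ω _ _ r η hr => ?_⟩
    have hU : (r ≫ μ) ≫ U.hom = r ≫ q := (Category.assoc _ _ _).trans (congrArg (r ≫ ·) hμ)
    have r₁ : (r ≫ q) ≫ pullback.fst f f = (r ≫ v) ≫ a₁ :=
      (Category.assoc _ _ _).trans ((congrArg (r ≫ ·) q₁).trans (Category.assoc _ _ _).symm)
    have r₂ : (r ≫ q) ≫ pullback.snd f f = η :=
      (Category.assoc _ _ _).trans ((congrArg (r ≫ ·) q₂).trans ((Category.assoc _ _ _).symm.trans hr))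
    have hl : (r ≫ μ) ≫ pullback.fst W.hom (pullback.fst f f) = r ≫ m :=
      (Category.assoc _ _ _).trans (congrArg (r ≫ ·) (pullback.lift_fst _ _ _))
    have hlW : (r ≫ m) ≫ W.hom = (r ≫ v) ≫ a₁ :=
      (Category.assoc _ _ _).trans ((congrArg (r ≫ ·) hm).trans (Category.assoc _ _ _).symm)
    refine Eq.trans (congrArg (trans φ _) ((ht Ω r ((r ≫ v) ≫ a₁) rfl).trans
      ((pst_unit (pullback.fst f f) F' r₁ (r ≫ μ) hU ((congrArg (· ≫ W.hom) hl).trans hlW) t).trans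
        (gSh_congr hl _ hlW t)).symm)) ?_
    rw [trans_pst φ (r ≫ q) r₁ r₂, gSh_stalk_map]
    exact (toSecs_val _ F' s Ω (r ≫ μ) hU η
      ((Category.assoc _ _ _).trans ((congrArg (r ≫ ·) e').trans ((Category.assoc _ _ _).symm.trans hr)))).symm

theorem transSecs_val (φ : (EtDesc.pullSh (pullback.fst f f)).obj F' ≅ (EtDesc.pullSh (pullback.snd f f)).obj F')
    {Z : Scheme.{u}} {a₁ a₂ : Z ⟶ X'} (h : a₁ ≫ f = a₂ ≫ f) (σ : Secs a₁ F') (Ω : Type u) [Field Ω]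
    [IsSepClosed Ω] (p : Spec (CommRingCat.of Ω) ⟶ Z) {p₁ p₂ : Spec (CommRingCat.of Ω) ⟶ X'}
    (h₁ : p ≫ a₁ = p₁) (h₂ : p ≫ a₂ = p₂) :
    (transSecs φ h σ).val Ω p p₂ h₂ = trans φ ((congrArg (· ≫ f) h₁.symm).trans ((Category.assoc _ _ _).trans
      ((congrArg (p ≫ ·) h).trans ((Category.assoc _ _ _).symm.trans (congrArg (· ≫ f) h₂)))))
      (σ.val Ω p p₁ h₁) := by
  subst h₁; rfl

end GrothLib.EtDescent
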