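import Groth.Agent.Lib.EtDescent.Acyclic
import Groth.Agent.Lib.LocAcyc.Discrete
import Groth.Agent.Lib.Thickening.Morphisms
import Groth.Agent.Lib.AlgSp.FieldBase

/-!
# Morphisms to discrete schemes are universally open
-/

universe u

open CategoryTheory CategoryTheory.Limits AlgebraicGeometry Opposite

noncomputable section

namespace GrothLib.EtDescent

theorem universallyOpen_of_discrete {X Y : Scheme.{u}} (g : X ⟶ Y) [DiscreteTopology Y] : UniversallyOpen g := by
  let U : Y → Y.Opens := fun y => ⟨{y}, isOpen_discrete _⟩
  have hU : TopologicalSpace.IsOpenCover U :=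
    TopologicalSpace.IsOpenCover.mk (TopologicalSpace.Opens.ext (Set.eq_univ_of_forall fun y => by simp [U]))
  refine (IsZariskiLocalAtTarget.iff_of_iSup_eq_top (P := @UniversallyOpen) U hU).2 fun y => ?_
  let k : Spec (Y.residueField y) ⟶ (U y).toScheme := IsOpenImmersion.lift (U y).ι (Y.fromSpecResidueField y) (by
    rw [Scheme.range_fromSpecResidueField, Scheme.Opens.range_ι]
    rfl)
  have hk : k ≫ (U y).ι = Y.fromSpecResidueField y := IsOpenImmersion.lift_fac _ _ _
  haveI : Surjective k := ⟨fun p => by
    obtain ⟨w⟩ : Nonempty ↥(Spec (Y.residueField y)) := inferInstance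
    refine ⟨w, (U y).ι.isEmbedding.injective ?_⟩
    refine (congrArg (fun m : Spec (Y.residueField y) ⟶ Y => m.base w) hk).trans ?_
    exact (Scheme.fromSpecResidueField_apply y w).trans (Set.mem_singleton_iff.1 p.2).symm⟩
  haveI : IsPreimmersion (k ≫ (U y).ι) := by rw [hk]; infer_instance
  haveI : IsPreimmersion k := IsPreimmersion.of_comp k (U y).ι
  haveI : IsClosedImmersion k := IsClosedImmersion.of_isPreimmersion k (by
    rw [k.surjective.range_eq]; exact isClosed_univ)
  haveI : UniversallyOpen k := GrothLib.Thickening.universallyOpen_of_surjective k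
  haveI : IsClosedImmersion (pullback.fst (g ∣_ U y) k) := MorphismProperty.pullback_fst _ _ ‹IsClosedImmersion k›
  haveI : Surjective (pullback.fst (g ∣_ U y) k) := MorphismProperty.pullback_fst _ _ ‹Surjective k›
  haveI : UniversallyOpen (pullback.snd (g ∣_ U y) k) :=
    GrothLib.AlgSp.universallyOpen_to_field (k := Y.residueField y) _
  rw [← GrothLib.Thickening.universallyOpen_comp_iff (pullback.fst (g ∣_ U y) k), pullback.condition]
  infer_instance

end GrothLib.EtDescent
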