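import Groth.Agent.Lib.FlatFactor.Saturate
import Groth.Agent.Lib.AlgSp.FppfDescent
import Mathlib.AlgebraicGeometry.ZariskisMainTheorem
import Mathlib.AlgebraicGeometry.Morphisms.UniversallyOpen

/-!
# Fppf coverings are refined etale locally by finite flat coverings
-/

universe u

open CategoryTheory CategoryTheory.Limits AlgebraicGeometry

noncomputable section

namespace GrothLib.EtDescent

/-- Etale locally on the base a flat, finitely presented, surjective morphism has a finite surjective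
multisection. -/
theorem exists_finite_chart {X' X : Scheme.{u}} (f : X' ⟶ X) [Surjective f] [Flat f]
    [LocallyOfFinitePresentation f] (x : X) :
    ∃ (S Q : Scheme.{u}) (j : S ⟶ X) (_ : Etale j) (g : Q ⟶ S) (h : Q ⟶ X'),
      IsFinite g ∧ Surjective g ∧ h ≫ f = g ≫ j ∧ x ∈ Set.range j.base := by
  obtain ⟨x', hx'⟩ := f.surjective x
  obtain ⟨R, D, i, φ, q, P, hi, hfp, hqf, hq, hP, hflat⟩ := GrothLib.FlatFactor.exists_slice f x'
  have hqfl : Flat (q ≫ f) := GrothLib.AlgSp.fppfDescends_flat (q ≫ f) f _ _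
    (IsPullback.of_hasPullback (q ≫ f) f) ‹Flat f› ‹LocallyOfFinitePresentation f› ‹Surjective f› hflat
  let k := Spec.map φ
  haveI : Flat k := by
    rw [hq] at hqfl
    exact MorphismProperty.of_postcomp @Flat k i (W' := @IsOpenImmersion) hi hqfl
  haveI : LocallyOfFinitePresentation k :=
    (HasRingHomProperty.Spec_iff (P := @LocallyOfFinitePresentation)).2 hfp
  haveI : LocallyQuasiFinite k := (HasRingHomProperty.Spec_iff (P := @LocallyQuasiFinite)).2 hqf
  obtain ⟨T, fT, hfT, -, V, W, v, -, hfin, hv⟩ :=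
    exists_etale_isCompl_of_quasiFiniteAt k rfl (k.quasiFiniteAt P)
  let gV : V.toScheme ⟶ T := V.ι ≫ pullback.snd k fT
  haveI : IsFinite gV := hfin
  haveI : Flat gV := inferInstance
  haveI : LocallyOfFinitePresentation gV := inferInstance
  let O : T.Opens := ⟨Set.range gV.base, gV.isOpenMap.isOpen_range⟩
  haveI : IsFinite (gV ∣_ O) := MorphismProperty.of_isPullback (isPullback_morphismRestrict gV O).flip ‹IsFinite gV›
  haveI : Surjective (gV ∣_ O) := ⟨fun o => by
    obtain ⟨w, hw⟩ := o.2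
    exact ⟨⟨w, show gV.base w ∈ O by rw [hw]; exact o.2⟩, Subtype.ext ((morphismRestrict_base_coe gV O _).trans hw)⟩⟩
  refine ⟨O.toScheme, (gV ⁻¹ᵁ O).toScheme, O.ι ≫ fT ≫ i, inferInstance, gV ∣_ O,
    (gV ⁻¹ᵁ O).ι ≫ V.ι ≫ pullback.fst k fT ≫ q, inferInstance, inferInstance, ?_, ⟨gV.base v, ⟨v, rfl⟩⟩, ?_⟩
  · rw [← Category.assoc (gV ∣_ O), morphismRestrict_ι]
    simp only [gV, Category.assoc, hq]
    rw [pullback.condition_assoc]
  · show i.base (fT.base (gV.base v)) = x
    rw [← hx', ← hP, ← hv]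
    exact congrArg i.base (congrArg (fun m : pullback k fT ⟶ Spec R => m.base v.1) pullback.condition).symm

end GrothLib.EtDescent
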