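import Groth.Agent.Lib.EtDescent.Integral
import Groth.Agent.Lib.EtSec.Stages

/-!
# Extension of stalk elements of a descent datum along integral multisections
-/

universe u

open CategoryTheory CategoryTheory.Limits AlgebraicGeometry Opposite
open GrothLib.EtSite GrothLib.EtSec

set_option backward.isDefEq.respectTransparency.types false

noncomputable section

namespace GrothLib.EtDescent

variable {X' X : Scheme.{u}} {f : X' ⟶ X} {F' : EtDesc.Sh X'}
  {φ : (EtDesc.pullSh (pullback.fst f f)).obj F' ≅ (EtDesc.pullSh (pullback.snd f f)).obj F'}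
  {Ω : Type u} [Field Ω] [IsAlgClosed Ω] {S Q : Scheme.{u}} {j : S ⟶ X} {g : Q ⟶ S} {h : Q ⟶ X'}
  [IsIntegralHom g]

theorem exists_section_on_multisection (hφ : EtDesc.IsCocycle F' φ) (hgh : h ≫ f = g ≫ j)
    (ξ₀ : Spec (CommRingCat.of Ω) ⟶ X') (η : Spec (CommRingCat.of Ω) ⟶ S) (hη : η ≫ j = ξ₀ ≫ f)
    (y : (stalkSh ξ₀).obj F') :
    ∃ (V : S.Etale) (v : Spec (CommRingCat.of Ω) ⟶ V.left) (_ : v ≫ V.hom = η)
      (z : EtDesc.sect ((EtDesc.pullSh h).obj F') ((EtCoh.bc g).obj V)),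
      ∀ (ξ : Spec (CommRingCat.of Ω) ⟶ Q) (h₀ : ξ₀ ≫ f = (ξ ≫ h) ≫ f)
        (l : Spec (CommRingCat.of Ω) ⟶ ((EtCoh.bc g).obj V).left) (hl : l ≫ ((EtCoh.bc g).obj V).hom = ξ),
        l ≫ pullback.fst V.hom g = v →
          pst h F' rfl (gSh ((EtDesc.pullSh h).obj F') l hl z) = trans φ h₀ y := by
  obtain ⟨W₁, l₁, hl₁, t₁, rfl⟩ := exists_gSh y
  let y := gSh F' l₁ hl₁ t₁
  let FQ := (EtDesc.pullSh h).obj F'
  have hbase : ∀ (ξ : Spec (CommRingCat.of Ω) ⟶ Q), ξ ≫ g = η → ξ₀ ≫ f = (ξ ≫ h) ≫ f := fun ξ hξ =>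
    hη.symm.trans ((congrArg (· ≫ j) hξ.symm).trans ((Category.assoc _ _ _).trans
      ((congrArg (ξ ≫ ·) hgh.symm).trans (Category.assoc _ _ _).symm)))
  let Rel : ∀ (ξ : Spec (CommRingCat.of Ω) ⟶ Q), ξ ≫ g = η → ∀ (T : Q.Etale),
      (Scheme.pointSmallEtale ξ).fiber.obj T → FQ.obj.obj (op T) → Prop :=
    fun ξ hξ T w s => pst h F' rfl (gSh FQ w.left (Over.w w) s) = trans φ (hbase ξ hξ) y
  obtain ⟨V, v, z, hz⟩ := exists_global_section g (η := η) (P := FQ.obj)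
    ((isSheaf_iff_isSheaf_of_type _ _).1 FQ.property) Rel
    (fun ξ hξ T T' b p s => iff_of_eq (congrArg (· = _) (congrArg (pst h F' rfl)
      (gSh_map b p.left (Over.w p) (Over.w ((Scheme.pointSmallEtale ξ).fiber.map b p)) s))))
    (fun ξ₁ hξ₁ => by
      obtain ⟨y₁, hy₁⟩ := (pst_bijective h F' (ξ := ξ₁) rfl).surjective (trans φ (hbase ξ₁ hξ₁) y)
      obtain ⟨W, l, hl, s, rfl⟩ := exists_gSh y₁
      let w : (Scheme.pointSmallEtale ξ₁).fiber.obj W := fib ξ₁ l hl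
      let wh : W.left ⟶ Q := W.hom
      let π₁ := pullback.fst (wh ≫ g) η
      let π₂ := pullback.snd (wh ≫ g) η
      have hff : (π₂ ≫ ξ₀) ≫ f = ((π₁ ≫ wh) ≫ h) ≫ f := by
        rw [Category.assoc, ← hη, Category.assoc (π₁ ≫ wh) h f, hgh, ← Category.assoc (π₁ ≫ wh),
          Category.assoc π₁ wh g, pullback.condition, Category.assoc]
      let A : Secs ((π₁ ≫ wh) ≫ h) F' := pushSecs rfl (Secs.ofSect (F := FQ) π₁ rfl s)
      let B : Secs ((π₁ ≫ wh) ≫ h) F' := transSecs φ hff (Secs.ofSect (π₂ ≫ l₁)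
        ((Category.assoc _ _ _).trans (congrArg (π₂ ≫ ·) hl₁)) t₁)
      let O : (pullback (wh ≫ g) η).Opens := ⟨Secs.eqLocus A B, Secs.isOpen_eqLocus A B⟩
      have hval : ∀ (ξ : Spec (CommRingCat.of Ω) ⟶ Q) (hξ : ξ ≫ g = η)
          (r : Spec (CommRingCat.of Ω) ⟶ pullback (wh ≫ g) η) (m : Spec (CommRingCat.of Ω) ⟶ W.left)
          (hm : m ≫ W.hom = ξ), r ≫ π₁ = m → r ≫ π₂ = 𝟙 _ →
            (r.base default ∈ O ↔ pst h F' rfl (gSh FQ m hm s) = trans φ (hbase ξ hξ) y) := by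
        intro ξ hξ r m hm hr₁ hr₂
        subst hr₁
        have h1 : r ≫ π₁ ≫ wh = ξ := (Category.assoc _ _ _).symm.trans hm
        have h1' : r ≫ (π₁ ≫ wh) ≫ h = ξ ≫ h := (Category.assoc _ _ _).symm.trans (congrArg (· ≫ h) h1)
        have h2 : r ≫ π₂ ≫ ξ₀ = ξ₀ :=
          (Category.assoc _ _ _).symm.trans ((congrArg (· ≫ ξ₀) hr₂).trans (Category.id_comp _))
        have e : (r ≫ π₂ ≫ l₁) = l₁ :=
          (Category.assoc _ _ _).symm.trans ((congrArg (· ≫ l₁) hr₂).trans (Category.id_comp _))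
        refine (Secs.mem_eqLocus_iff A B r (ξ ≫ h) h1').trans ?_
        rw [pushSecs_val rfl _ Ω r h1 (ξ ≫ h) h1', transSecs_val φ hff _ Ω r h2 h1', Secs.ofSect_val,
          Secs.ofSect_val, gSh_congr e _ hl₁ t₁]
      obtain ⟨V, v, T, a, b, p₀, hp₀, hgood⟩ := exists_stage_open g W hξ₁ w O (fun r h1 h2 =>
        (hval ξ₁ hξ₁ r l hl h1 h2).2 hy₁)
      refine ⟨V, v, T, b, FQ.obj.map a.op s, p₀, hp₀, fun ξ hξ p hp => ?_⟩
      obtain ⟨r, hr₁, hr₂, hrO⟩ := hgood ξ hξ p hp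
      show pst h F' rfl (gSh FQ p.left (Over.w p) (FQ.obj.map a.op s)) = _
      rw [gSh_map a p.left (Over.w p) (Over.w ((Scheme.pointSmallEtale ξ).fiber.map a p))]
      exact (hval ξ hξ r _ (Over.w ((Scheme.pointSmallEtale ξ).fiber.map a p)) hr₁ hr₂).1 hrO)
  refine ⟨V, v.left, Over.w v, z, fun ξ h₀ l hl hlv => ?_⟩
  have hξ : ξ ≫ g = η := by
    refine Eq.trans ?_ ((congrArg (· ≫ V.hom) hlv).trans (Over.w v))
    exact ((congrArg (· ≫ g) hl.symm).trans ((Category.assoc _ _ _).trans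
      ((congrArg (l ≫ ·) (bc_cond g V).symm).trans (Category.assoc _ _ _).symm)))
  have e : l = (liftPt g v ξ hξ).left := pullback.hom_ext
    (hlv.trans (pullback.lift_fst _ _ _).symm) (hl.trans (pullback.lift_snd _ _ _).symm)
  exact (congrArg (pst h F' rfl) (gSh_congr e hl (Over.w (liftPt g v ξ hξ)) z)).trans (hz ξ hξ)

theorem exists_extension_of_multisection (hφ : EtDesc.IsCocycle F' φ) [Etale j] [Surjective g]
    (hgh : h ≫ f = g ≫ j) (ξ₀ : Spec (CommRingCat.of Ω) ⟶ X') (η : Spec (CommRingCat.of Ω) ⟶ S)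
    (hη : η ≫ j = ξ₀ ≫ f) (y : (stalkSh ξ₀).obj F') :
    ∃ (U : X.Etale) (l : Spec (CommRingCat.of Ω) ⟶ pullback U.hom f) (hl : l ≫ pullback.snd U.hom f = ξ₀)
      (σ : CSecs φ U), σ.1.val Ω l ξ₀ hl = y := by
  obtain ⟨V, v, hv, z, hz⟩ := exists_section_on_multisection hφ hgh ξ₀ η hη y
  let π : pullback V.hom g ⟶ V.left := pullback.fst V.hom g
  let a : pullback V.hom g ⟶ X' := pullback.snd V.hom g ≫ h
  have hb : a ≫ f = π ≫ V.hom ≫ j := by
    simp only [a, π, Category.assoc, hgh, pullback.condition_assoc]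
  let σ₀ : Secs a F' := pushSecs rfl (secOf ((EtDesc.pullSh h).obj F') (U := (EtCoh.bc g).obj V) z)
  have hσ₀ : ∀ (l : Spec (CommRingCat.of Ω) ⟶ pullback V.hom g) (p : Spec (CommRingCat.of Ω) ⟶ X')
      (hp : l ≫ a = p) (h₀ : ξ₀ ≫ f = p ≫ f), l ≫ π = v → σ₀.val Ω l p hp = trans φ h₀ y := by
    intro l p hp h₀ hlv
    obtain rfl : p = (l ≫ pullback.snd V.hom g) ≫ h := hp.symm.trans (Category.assoc _ _ _).symm
    rw [pushSecs_val rfl _ Ω l rfl _ hp]
    exact (congrArg (pst h F' rfl) (secOf_val ((EtDesc.pullSh h).obj F') (U := (EtCoh.bc g).obj V) z Ω l _ rfl)).trans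
      (hz _ h₀ l rfl hlv)
  let P := pullback π π
  let ρ : P ⟶ V.left := pullback.fst π π ≫ π
  haveI : IsIntegralHom π := MorphismProperty.pullback_fst _ _ ‹IsIntegralHom g›
  haveI : IsIntegralHom (pullback.fst π π) := MorphismProperty.pullback_fst _ _ ‹IsIntegralHom π›
  haveI : IsIntegralHom ρ := inferInstance
  let E := Secs.eqLocus (compatLHS φ hb σ₀) (σ₀.res (pullback.snd π π) rfl)
  have hη' : ∀ l : Spec (CommRingCat.of Ω) ⟶ pullback V.hom g, l ≫ π = v → ξ₀ ≫ f = (l ≫ a) ≫ f :=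
    fun l hl => by
      rw [Category.assoc, hb, ← Category.assoc, hl, ← Category.assoc, hv, hη]
  have hfib : ∀ w : P, ρ.base w = v.base default → w ∈ E := by
    intro w hw
    obtain ⟨u, hu, -⟩ := Scheme.Pullback.exists_preimage_pullback (f := ρ) (g := v) w default hw
    haveI : IsIntegralHom (pullback.snd ρ v) := MorphismProperty.pullback_snd _ _ ‹IsIntegralHom ρ›
    obtain ⟨q, hq, hqu⟩ := exists_section_point (pullback.snd ρ v) u
    let r : Spec (CommRingCat.of Ω) ⟶ P := q ≫ pullback.fst ρ v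
    have hrv : r ≫ ρ = v :=
      (Category.assoc _ _ _).trans ((congrArg (q ≫ ·) pullback.condition).trans
        ((Category.assoc _ _ _).symm.trans ((congrArg (· ≫ v) hq).trans (Category.id_comp _))))
    have hw' : r.base default = w := (congrArg (pullback.fst ρ v).base hqu).trans hu
    rw [← hw']
    let l₁ := r ≫ pullback.fst π π
    let l₂ := r ≫ pullback.snd π π
    have e₁ : l₁ ≫ π = v := (Category.assoc _ _ _).trans hrv
    have e₂ : l₂ ≫ π = v :=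
      (Category.assoc _ _ _).trans ((congrArg (r ≫ ·) pullback.condition.symm).trans hrv)
    refine (Secs.mem_eqLocus_iff _ _ r (l₂ ≫ a) (Category.assoc _ _ _).symm).2 ?_
    rw [compatLHS_val hb σ₀ Ω r rfl rfl rfl rfl ((hη' l₁ e₁).symm.trans (hη' l₂ e₂)), Secs.res_val,
      hσ₀ l₁ _ rfl (hη' l₁ e₁) e₁, trans_trans hφ _ _ (hη' l₂ e₂), hσ₀ l₂ _ _ (hη' l₂ e₂) e₂]
  let O : V.left.Opens := ⟨(ρ.base '' Eᶜ)ᶜ,
    (ρ.isClosedMap _ (Secs.isOpen_eqLocus _ _).isClosed_compl).isOpen_compl⟩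
  have hvO : v.base default ∈ O := fun ⟨w, hwE, hw⟩ => hwE (hfib w hw)
  let vh : V.left ⟶ S := V.hom
  haveI : Etale vh := V.prop
  let U : X.Etale := Scheme.Etale.mk ((O.ι ≫ vh) ≫ j)
  let π' : pullback (O.ι ≫ vh) g ⟶ U.left := pullback.fst (O.ι ≫ vh) g
  let c : pullback (O.ι ≫ vh) g ⟶ pullback V.hom g := bmap g (z := O.ι ≫ vh) (z' := V.hom) O.ι rfl
  let σQ : Secs (pullback.snd (O.ι ≫ vh) g ≫ h) F' := σ₀.res c (bmap_snd_assoc g O.ι rfl h)
  have hb' : (pullback.snd (O.ι ≫ vh) g ≫ h) ≫ f = π' ≫ U.hom := by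
    show (pullback.snd (O.ι ≫ vh) g ≫ h) ≫ f = pullback.fst (O.ι ≫ vh) g ≫ (O.ι ≫ vh) ≫ j
    rw [Category.assoc, hgh, ← pullback.condition_assoc]
  have hcf : c ≫ π = π' ≫ O.ι := bmap_fst g O.ι rfl
  have hσ : DCompat φ π' σQ := by
    intro K _ _ p q p₁ q₁ hp hq hpq h₀
    have hπ : (p ≫ c) ≫ π = (q ≫ c) ≫ π :=
      (Category.assoc _ _ _).trans ((congrArg (p ≫ ·) hcf).trans ((Category.assoc _ _ _).symm.trans
        ((congrArg (· ≫ O.ι) hpq).trans ((Category.assoc _ _ _).trans ((congrArg (q ≫ ·) hcf.symm).trans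
          (Category.assoc _ _ _).symm)))))
    let r : Spec (CommRingCat.of K) ⟶ P := pullback.lift (p ≫ c) (q ≫ c) hπ
    have hr₁ : r ≫ pullback.fst π π = p ≫ c := pullback.lift_fst _ _ _
    have hr₂ : r ≫ pullback.snd π π = q ≫ c := pullback.lift_snd _ _ _
    have hrE : r.base default ∈ E := by
      by_contra hc
      have hO : ρ.base (r.base default) ∈ O := by
        have e : r ≫ ρ = (p ≫ π') ≫ O.ι := by
          refine (Category.assoc _ _ _).symm.trans ((congrArg (· ≫ π) hr₁).trans ?_)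
          exact (Category.assoc _ _ _).trans ((congrArg (p ≫ ·) hcf).trans (Category.assoc _ _ _).symm)
        rw [show ρ.base (r.base default) = O.ι.base ((p ≫ π').base default) from
          congrArg (fun k : Spec (CommRingCat.of K) ⟶ V.left => k.base default) e]
        exact ((p ≫ π').base default).2
      exact hO ⟨_, hc, rfl⟩
    have hca : c ≫ a = pullback.snd (O.ι ≫ vh) g ≫ h := bmap_snd_assoc g O.ι rfl h
    have hp₁ : (p ≫ c) ≫ a = p₁ := (Category.assoc _ _ _).trans ((congrArg (p ≫ ·) hca).trans hp)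
    have hq₁ : (q ≫ c) ≫ a = q₁ := (Category.assoc _ _ _).trans ((congrArg (q ≫ ·) hca).trans hq)
    have h2 : r ≫ pullback.snd π π ≫ a = q₁ :=
      (Category.assoc _ _ _).symm.trans ((congrArg (· ≫ a) hr₂).trans hq₁)
    have := (Secs.mem_eqLocus_iff _ _ r q₁ h2).1 hrE
    rw [compatLHS_val hb σ₀ K r hr₁ hr₂ hp₁ hq₁ h₀ h2, Secs.res_val] at this
    rw [Secs.res_val, Secs.res_val]
    exact this.trans (σ₀.val_congr hr₂ _ hq₁)
  have hπ' : EtDesc.IsUnivSubmersive π' := by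
    haveI : IsIntegralHom π' := MorphismProperty.pullback_fst _ _ ‹IsIntegralHom g›
    haveI : Surjective π' := MorphismProperty.pullback_fst _ _ ‹Surjective g›
    exact univSubmersive_of_integral
  obtain ⟨σ, hσv⟩ := exists_csecs hφ π' _ hb' hπ' σQ hσ
  obtain ⟨v', hv', -⟩ := exists_lift O.ι v ⟨_, hvO⟩ rfl
  haveI : Surjective (pullback.snd g η) := MorphismProperty.pullback_snd _ _ ‹Surjective g›
  haveI : IsIntegralHom (pullback.snd g η) := MorphismProperty.pullback_snd _ _ ‹IsIntegralHom g›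
  obtain ⟨u, -⟩ := (pullback.snd g η).surjective default
  obtain ⟨q₀, hq₀, -⟩ := exists_section_point (pullback.snd g η) u
  let qQ : Spec (CommRingCat.of Ω) ⟶ Q := q₀ ≫ pullback.fst g η
  have hqQ : qQ ≫ g = η := by
    rw [Category.assoc, pullback.condition, ← Category.assoc, hq₀, Category.id_comp]
  have hv'' : v' ≫ O.ι ≫ vh = η := by rw [← Category.assoc, hv']; exact hv
  let p : Spec (CommRingCat.of Ω) ⟶ pullback (O.ι ≫ vh) g := pullback.lift v' qQ (hv''.trans hqQ.symm)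
  have hU : v' ≫ U.hom = ξ₀ ≫ f := by
    show v' ≫ (O.ι ≫ vh) ≫ j = ξ₀ ≫ f
    rw [← Category.assoc, hv'', hη]
  have hqf : (qQ ≫ h) ≫ f = ξ₀ ≫ f := by rw [Category.assoc, hgh, ← Category.assoc, hqQ, hη]
  let l : Spec (CommRingCat.of Ω) ⟶ pullback U.hom f := pullback.lift v' ξ₀ hU
  let lQ : Spec (CommRingCat.of Ω) ⟶ pullback U.hom f := pullback.lift v' (qQ ≫ h) (hU.trans hqf.symm)
  have hpb : p ≫ pullback.snd (O.ι ≫ vh) g ≫ h = qQ ≫ h := pullback.lift_snd_assoc _ _ _ _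
  refine ⟨U, l, pullback.lift_snd _ _ _, σ, ?_⟩
  rw [← σ.2 Ω lQ l (qQ ≫ h) ξ₀ (pullback.lift_snd _ _ _) (pullback.lift_snd _ _ _)
    ((pullback.lift_fst _ _ _).trans (pullback.lift_fst _ _ _).symm) hqf,
    hσv Ω p (qQ ≫ h) hpb lQ (pullback.lift_snd _ _ _) ((pullback.lift_fst _ _ _).trans (pullback.lift_fst _ _ _).symm),
    Secs.res_val, hσ₀ (p ≫ c) (qQ ≫ h) _ hqf.symm
      ((Category.assoc _ _ _).trans ((congrArg (p ≫ ·) hcf).trans ((Category.assoc _ _ _).symm.trans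
        ((congrArg (· ≫ O.ι) (pullback.lift_fst _ _ _)).trans hv')))),
    trans_trans hφ hqf.symm hqf rfl, trans_self hφ]

end GrothLib.EtDescent
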