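import Groth.Agent.Lib.EtDescent.CanIso

/-!
# Descent of morphisms of sheaves along universally submersive morphisms
-/

universe u

open CategoryTheory CategoryTheory.Limits AlgebraicGeometry Opposite
open GrothLib.EtSite GrothLib.EtSec

set_option backward.isDefEq.respectTransparency.types false

noncomputable section

namespace GrothLib.EtDescent

theorem univSubmersive_of_isPullback {P Y X X' : Scheme.{u}} {f : X' ⟶ X} (hf : EtDesc.IsUnivSubmersive f)
    {f' : P ⟶ Y} {b' : P ⟶ X'} {b : Y ⟶ X} (h : IsPullback b' f' f b) : EtDesc.IsUnivSubmersive f' := by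
  intro T g
  let i := ((IsPullback.of_hasPullback f' g).paste_horiz h).isoPullback
  have hi : i.hom ≫ pullback.snd f (g ≫ b) = pullback.snd f' g := IsPullback.isoPullback_hom_snd _
  obtain ⟨hs, hq⟩ := hf T (g ≫ b)
  rw [← hi]
  exact ⟨hs.comp i.hom.homeomorph.surjective, hq.comp i.hom.homeomorph.isQuotientMap⟩

theorem isQuotientMap_of_univSubmersive {A B : Scheme.{u}} {a : A ⟶ B} (h : EtDesc.IsUnivSubmersive a) :
    Topology.IsQuotientMap a.base := by
  have e : a = inv (pullback.fst a (𝟙 B)) ≫ pullback.snd a (𝟙 B) := by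
    rw [IsIso.eq_inv_comp, pullback.condition, Category.comp_id]
  rw [e]
  exact (h B (𝟙 B)).2.comp (inv (pullback.fst a (𝟙 B))).homeomorph.isQuotientMap

variable {X' X : Scheme.{u}} {f : X' ⟶ X} {F G : EtDesc.Sh X}

theorem exists_hom_descend (hf : EtDesc.IsUnivSubmersive f)
    {a : (EtDesc.pullSh f).obj F ⟶ (EtDesc.pullSh f).obj G}
    (ha : (EtDesc.canIso f F).hom ≫ (EtDesc.pullSh (pullback.snd f f)).map a =
      (EtDesc.pullSh (pullback.fst f f)).map a ≫ (EtDesc.canIso f G).hom) :
    ∃! b : F ⟶ G, (EtDesc.pullSh f).map b = a := by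
  let σ : ∀ (U : X.Etale) (t : EtDesc.sect F U), Secs (((EtCoh.bc f).obj U).hom ≫ f) G := fun U t =>
    toSecs f G (a.hom.app (op ((EtCoh.bc f).obj U)) (((EtDesc.adjSh f).unit.app F).hom.app (op U) t))
  have hπ : ∀ U : X.Etale, EtDesc.IsUnivSubmersive (pullback.fst U.hom f) := fun U =>
    univSubmersive_of_isPullback hf (IsPullback.of_hasPullback U.hom f).flip
  have hbase : ∀ (U : X.Etale) (t : EtDesc.sect G U),
      toSecs f G (((EtDesc.adjSh f).unit.app G).hom.app (op U) t) =
        (secOf G t).res (pullback.fst U.hom f) (bc_cond f U) :=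
    fun U t => (toSecs_unit f G t).trans (ofSect_eq G _ _ t)
  have hc : ∀ U t, Compat (pullback.fst U.hom f) (σ U t) := fun U t Ω _ _ p q η hp hq hpq => by
    have e₁ : (p ≫ ((EtCoh.bc f).obj U).hom) ≫ f = η := (Category.assoc _ _ _).trans hp
    have e₂ : (q ≫ ((EtCoh.bc f).obj U).hom) ≫ f = η := (Category.assoc _ _ _).trans hq
    have hpW : (p ≫ pullback.fst U.hom f) ≫ U.hom = η :=
      (Category.assoc _ _ _).trans ((congrArg (p ≫ ·) (bc_cond f U)).trans hp)
    let x : EtDesc.sect ((EtDesc.pullSh f).obj F) ((EtCoh.bc f).obj U) :=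
      ((EtDesc.adjSh f).unit.app F).hom.app (op U) t
    have hx : pst f F e₁ (gSh ((EtDesc.pullSh f).obj F) p rfl x) = pst f F e₂ (gSh ((EtDesc.pullSh f).obj F) q rfl x) :=
      (pst_unit f F e₁ p rfl hpW t).trans ((gSh_congr hpq _ ((congrArg (· ≫ U.hom) hpq.symm).trans hpW) t).trans
        (pst_unit f F e₂ q rfl _ t).symm)
    have h := pst_eq_of_compat f ha e₁ e₂ _ _ hx
    rw [gSh_stalk_map, gSh_stalk_map] at h
    exact (toSecs_val f G (U := (EtCoh.bc f).obj U) (a.hom.app (op ((EtCoh.bc f).obj U)) x) Ω p rfl η hp).trans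
      (h.trans (toSecs_val f G (U := (EtCoh.bc f).obj U) (a.hom.app (op ((EtCoh.bc f).obj U)) x) Ω q rfl η hq).symm)
  have ex : ∀ U t, ∃ s : EtDesc.sect G U, (secOf G s).res (pullback.fst U.hom f) (bc_cond f U) = σ U t := fun U t => by
    obtain ⟨s₀, hs₀⟩ := exists_descend (hasQuotientBC_of_univSubmersive (hπ U)) (bc_cond f U) (σ U t) (hc U t)
    obtain ⟨s, rfl⟩ := (secOf_bijective G U).surjective s₀
    exact ⟨s, hs₀⟩
  have uniq : ∀ (U : X.Etale) (s s' : EtDesc.sect G U), (secOf G s).res (pullback.fst U.hom f) (bc_cond f U) =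
      (secOf G s').res (pullback.fst U.hom f) (bc_cond f U) → s = s' := fun U s s' h => by
    haveI : Surjective (pullback.fst U.hom f) := (hasQuotientBC_of_univSubmersive (hπ U)).surjective
    exact secOf_injective G U (GrothLib.EtSec.res_injective (a := pullback.fst U.hom f) (bc_cond f U) h)
  choose s hs using ex
  have nat : ∀ ⦃U V : X.Etale⦄ (r : V ⟶ U) (t : EtDesc.sect F U), s V (F.obj.map r.op t) = G.obj.map r.op (s U t) := by
    intro U V r t
    refine uniq V _ _ ((hs V _).trans ?_)
    have hr : ((EtCoh.bc f).map r).left ≫ pullback.fst U.hom f = pullback.fst V.hom f ≫ r.left :=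
      pullback.lift_fst _ _ _
    have e : ((EtDesc.adjSh f).unit.app F).hom.app (op V) (F.obj.map r.op t) =
        ((EtDesc.pullSh f).obj F).obj.map ((EtCoh.bc f).map r).op
          (((EtDesc.adjSh f).unit.app F).hom.app (op U) t) :=
      NatTrans.naturality_apply ((EtDesc.adjSh f).unit.app F).hom r.op t
    have e' : a.hom.app (op ((EtCoh.bc f).obj V)) (((EtDesc.adjSh f).unit.app F).hom.app (op V) (F.obj.map r.op t)) =
        ((EtDesc.pullSh f).obj G).obj.map ((EtCoh.bc f).map r).op
          (a.hom.app (op ((EtCoh.bc f).obj U)) (((EtDesc.adjSh f).unit.app F).hom.app (op U) t)) :=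
      (congrArg (a.hom.app _) e).trans (NatTrans.naturality_apply a.hom _ _)
    refine (congrArg (toSecs f G) e').trans ((toSecs_map f G _ _).trans ?_)
    have eh : ((EtCoh.bc f).map r).left ≫ ((EtCoh.bc f).obj U).hom ≫ f = ((EtCoh.bc f).obj V).hom ≫ f :=
      (Category.assoc _ _ _).symm.trans (congrArg (· ≫ f) (hom_left ((EtCoh.bc f).map r)))
    show (σ U t).res ((EtCoh.bc f).map r).left eh = _
    rw [← hs U t, secOf_map]
    exact (Secs.res_comp _ _ _ _ _).trans ((Secs.res_congr hr _ _ _).trans (Secs.res_comp _ _ _ _ _).symm)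
  let b : F ⟶ G := ⟨{ app := fun U => TypeCat.ofHom (s U.unop)
                      naturality := fun U V r => by
                        ext t
                        exact nat r.unop t }⟩
  have key : ∀ (b' : F ⟶ G), (EtDesc.pullSh f).map b' = a ↔ ∀ (U : X.Etale) (t : EtDesc.sect F U),
      (secOf G (b'.hom.app (op U) t)).res (pullback.fst U.hom f) (bc_cond f U) = σ U t := by
    intro b'
    have hu : ∀ (U : X.Etale) (t : EtDesc.sect F U),
        ((EtDesc.pullSh f).map b').hom.app (op ((EtCoh.bc f).obj U)) (((EtDesc.adjSh f).unit.app F).hom.app (op U) t) =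
          ((EtDesc.adjSh f).unit.app G).hom.app (op U) (b'.hom.app (op U) t) := fun U t =>
      (congrArg (fun k : F ⟶ (EtDesc.pushSh f).obj ((EtDesc.pullSh f).obj G) => k.hom.app (op U) t)
        ((EtDesc.adjSh f).unit.naturality b')).symm
    constructor
    · rintro h U t
      rw [← hbase, ← hu U t, h]
    · intro h
      refine ((EtDesc.adjSh f).homEquiv _ _).injective ?_
      rw [Adjunction.homEquiv_unit, Adjunction.homEquiv_unit]
      ext U t
      exact toSecs_injective f G _ (((congrArg (toSecs f G) (hu U.unop t)).trans (hbase _ _)).trans (h U.unop t))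
  refine ⟨b, (key b).2 hs, fun b' hb' => ?_⟩
  ext U t
  exact uniq U.unop _ _ (((key b').1 hb' U.unop t).trans (hs U.unop t).symm)

end GrothLib.EtDescent
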