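import Groth.Agent.Lib.EtDescent.CanIso
import Groth.Agent.Lib.EtDescent.Hom

/-!
# The sheaf of compatible sections of a descent datum

For a descent datum `φ` on `F'` along `f : X' ⟶ X` the sheaf on `X` sending `U` to the compatible
sections of `F'` over `U ×_X X'` makes the datum effective as soon as every stalk element of `F'`
extends to a compatible section near the point.
-/

universe u

open CategoryTheory CategoryTheory.Limits AlgebraicGeometry Opposite
open GrothLib.EtSite GrothLib.EtSec

set_option backward.isDefEq.respectTransparency.types false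

noncomputable section

namespace GrothLib.EtDescent

variable {X' X : Scheme.{u}} {f : X' ⟶ X} {F' : EtDesc.Sh X'}
  (φ : (EtDesc.pullSh (pullback.fst f f)).obj F' ≅ (EtDesc.pullSh (pullback.snd f f)).obj F')

/-- A section is compatible with the datum along `π`. -/
def DCompat {Z' Z : Scheme.{u}} (π : Z' ⟶ Z) {a : Z' ⟶ X'} (σ : Secs a F') : Prop :=
  ∀ (Ω : Type u) [Field Ω] [IsSepClosed Ω] (p q : Spec (CommRingCat.of Ω) ⟶ Z')
    (p₁ q₁ : Spec (CommRingCat.of Ω) ⟶ X') (hp : p ≫ a = p₁) (hq : q ≫ a = q₁), p ≫ π = q ≫ π →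
    ∀ h : p₁ ≫ f = q₁ ≫ f, trans φ h (σ.val Ω p p₁ hp) = σ.val Ω q q₁ hq

variable {φ}

theorem DCompat.res {Z' Z W' W : Scheme.{u}} {π : Z' ⟶ Z} {a : Z' ⟶ X'} {σ : Secs a F'} (hσ : DCompat φ π σ)
    {π' : W' ⟶ W} (c : W' ⟶ Z') (c₀ : W ⟶ Z) (hc : c ≫ π = π' ≫ c₀) {a' : W' ⟶ X'} (e : c ≫ a = a') :
    DCompat φ π' (σ.res c e) := fun Ω _ _ p q p₁ q₁ hp hq hpq h =>
  hσ Ω (p ≫ c) (q ≫ c) p₁ q₁ _ _ (by rw [Category.assoc, Category.assoc, hc, ← Category.assoc, hpq, Category.assoc]) h

theorem DCompat.eq_of_mem {Z' Z : Scheme.{u}} {π : Z' ⟶ Z} {a : Z' ⟶ X'} (haf : ∃ b : Z ⟶ X, a ≫ f = π ≫ b)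
    {σ τ : Secs a F'} (hσ : DCompat φ π σ) (hτ : DCompat φ π τ) {y₁ y₂ : Z'} (hy : π.base y₁ = π.base y₂)
    (h : y₂ ∈ Secs.eqLocus σ τ) : y₁ ∈ Secs.eqLocus σ τ := by
  obtain ⟨b, hb⟩ := haf
  obtain ⟨y, h₁, h₂⟩ := Scheme.Pullback.exists_preimage_pullback (f := π) (g := π) y₁ y₂ hy
  obtain ⟨Ω, _, _, q, rfl⟩ := Secs.exists_point y
  rw [← h₁]
  rw [← h₂] at h
  let r₁ := q ≫ pullback.fst π π
  let r₂ := q ≫ pullback.snd π π
  have hπ : r₁ ≫ π = r₂ ≫ π := by simp only [r₁, r₂, Category.assoc, pullback.condition]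
  have hh : (r₁ ≫ a) ≫ f = (r₂ ≫ a) ≫ f :=
    (Category.assoc r₁ a f).trans ((congrArg (r₁ ≫ ·) hb).trans ((Category.assoc r₁ π b).symm.trans
      ((congrArg (· ≫ b) hπ).trans ((Category.assoc r₂ π b).trans ((congrArg (r₂ ≫ ·) hb.symm).trans
        (Category.assoc r₂ a f).symm)))))
  have h2 := (Secs.mem_eqLocus_iff σ τ r₂ _ rfl).1 h
  refine (Secs.mem_eqLocus_iff σ τ r₁ _ rfl).2 ((trans_bijective φ hh).injective ?_)
  rw [hσ Ω r₁ r₂ _ _ rfl rfl hπ hh, hτ Ω r₁ r₂ _ _ rfl rfl hπ hh, h2]

variable (φ)

/-- The map of base changes. -/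
def bcl {U V : X.Etale} (r : V ⟶ U) : pullback V.hom f ⟶ pullback U.hom f :=
  pullback.lift (pullback.fst V.hom f ≫ r.left) (pullback.snd V.hom f)
    ((Category.assoc _ _ _).trans ((congrArg (_ ≫ ·) (hom_left r)).trans pullback.condition))

theorem bcl_fst {U V : X.Etale} (r : V ⟶ U) :
    bcl (f := f) r ≫ pullback.fst U.hom f = pullback.fst V.hom f ≫ r.left := pullback.lift_fst _ _ _

theorem bcl_snd {U V : X.Etale} (r : V ⟶ U) : bcl (f := f) r ≫ pullback.snd U.hom f = pullback.snd V.hom f :=
  pullback.lift_snd _ _ _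

theorem bcl_eq {U V : X.Etale} (r : V ⟶ U) : ((EtCoh.bc f).map r).left = bcl (f := f) r :=
  pullback.hom_ext ((pullback.lift_fst _ _ _).trans (bcl_fst r).symm) ((pullback.lift_snd _ _ _).trans (bcl_snd r).symm)

/-- Compatible sections over an etale scheme over `X`. -/
abbrev CSecs (U : X.Etale) : Type (u + 1) :=
  {σ : Secs (pullback.snd U.hom f) F' // DCompat φ (pullback.fst U.hom f) σ}

/-- The presheaf of compatible sections. -/
def gluePre : X.Etaleᵒᵖ ⥤ Type (u + 1) where
  obj U := CSecs φ U.unop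
  map {U V} r := TypeCat.ofHom fun σ => ⟨σ.1.res (bcl r.unop) (bcl_snd r.unop), σ.2.res _ _ (bcl_fst r.unop) _⟩
  map_id U := by
    ext σ
    refine Secs.ext' fun Ω _ _ p η h => σ.1.val_congr ?_ _ _
    exact (congrArg (p ≫ ·) (pullback.hom_ext ((bcl_fst (𝟙 U.unop)).trans (Category.comp_id _) |>.trans
      (Category.id_comp _).symm) ((bcl_snd (𝟙 U.unop)).trans (Category.id_comp _).symm))).trans (Category.comp_id _)
  map_comp {U V W} r s := by
    ext σ
    refine Secs.ext' fun Ω _ _ p η h => σ.1.val_congr ?_ _ _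
    refine (congrArg (p ≫ ·) ?_).trans (Category.assoc p (bcl s.unop) (bcl r.unop)).symm
    refine pullback.hom_ext ((bcl_fst _).trans ?_) ((bcl_snd _).trans ?_)
    · rw [Category.assoc, bcl_fst, ← Category.assoc (bcl s.unop), bcl_fst, Category.assoc]; rfl
    · rw [Category.assoc, bcl_snd, bcl_snd]

theorem gluePre_map_val {U V : X.Etale} (r : V ⟶ U) (σ : CSecs φ U) :
    ((gluePre φ).map r.op σ).1 = σ.1.res (bcl r) (bcl_snd r) := rfl

theorem isSheaf_gluePre : Presheaf.IsSheaf X.smallEtaleTopology (gluePre φ) := by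
  rw [isSheaf_iff_isSheaf_of_type]
  intro U R hR x hx
  rw [mem_topology_iff] at hR
  choose V g v hv hgv using hR
  let xs : ∀ u : U.left, CSecs φ (V u) := fun u => x (g u) (hv u)
  have hcov : ∀ z : ↥(pullback U.hom f), ∃ (u : U.left) (z' : ↥(pullback (V u).hom f)), (bcl (g u)).base z' = z := by
    intro z
    let u := (pullback.fst U.hom f).base z
    have h : IsPullback (bcl (g u)) (pullback.fst (V u).hom f) (pullback.fst U.hom f) (g u).left := by
      refine IsPullback.of_right ?_ (bcl_fst (g u)) (IsPullback.of_hasPullback U.hom f).flip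
      rw [bcl_snd]
      rw [hom_left (g u)]
      exact (IsPullback.of_hasPullback (V u).hom f).flip
    obtain ⟨z', hz'⟩ : ∃ z', (bcl (g u)).base z' = z := by
      obtain ⟨w, hw₁, hw₂⟩ := Scheme.Pullback.exists_preimage_pullback (f := pullback.fst U.hom f)
        (g := (g u).left) z (v u) (hgv u).symm
      refine ⟨h.isoPullback.inv.base w, ?_⟩
      rw [← hw₁]
      exact congrArg (fun k : pullback (pullback.fst U.hom f) (g u).left ⟶ pullback U.hom f => k.base w)
        h.isoPullback_inv_fst
    exact ⟨u, z', hz'⟩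
  have het : ∀ u : U.left, Etale (bcl (f := f) (g u)) := fun u => by
    haveI : Etale (pullback.snd (V u).hom f) := MorphismProperty.pullback_snd _ _ (V u).prop
    haveI : Etale (pullback.snd U.hom f) := MorphismProperty.pullback_snd _ _ U.prop
    haveI : Etale (bcl (f := f) (g u) ≫ pullback.snd U.hom f) := by rw [bcl_snd]; infer_instance
    exact Etale.of_comp _ (pullback.snd U.hom f)
  obtain ⟨σ, hσ⟩ := Secs.exists_glue (fun u => pullback (V u).hom f) (fun u => bcl (g u)) het hcov
    (a := pullback.snd U.hom f) (F := F') (fun u => (xs u).1.res (𝟙 _) ((Category.id_comp _).trans (bcl_snd (g u)).symm))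
    (fun i j Ω _ _ p q η hp hq hpq => by
      let gi : (V i).left ⟶ U.left := (g i).left
      let gj : (V j).left ⟶ U.left := (g j).left
      haveI : Etale (V i).hom := (V i).prop
      haveI : Etale gj := by
        haveI : Etale U.hom := U.prop
        haveI : Etale (gj ≫ U.hom) := by rw [show gj ≫ U.hom = (V j).hom from hom_left (g j)]; exact (V j).prop
        exact Etale.of_comp gj U.hom
      haveI : Etale (pullback.fst gi gj) := MorphismProperty.pullback_fst _ _ ‹Etale gj›
      let W : X.Etale := Scheme.Etale.mk (pullback.fst gi gj ≫ (V i).hom)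
      let ri : W ⟶ V i := MorphismProperty.Over.homMk (pullback.fst gi gj) rfl
      let rj : W ⟶ V j := MorphismProperty.Over.homMk (pullback.snd gi gj)
        ((congrArg (pullback.snd gi gj ≫ ·) (hom_left (g j)).symm).trans ((pullback.condition_assoc _).symm.trans
          (congrArg (pullback.fst gi gj ≫ ·) (hom_left (g i)))))
      have hw : ri ≫ g i = rj ≫ g j := MorphismProperty.Over.Hom.ext pullback.condition
      have key := congrArg Subtype.val (hx ri rj (hv i) (hv j) hw)
      rw [gluePre_map_val, gluePre_map_val] at key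
      have hpV : (p ≫ pullback.fst (V i).hom f) ≫ gi = (q ≫ pullback.fst (V j).hom f) ≫ gj := by
        have := congrArg (· ≫ pullback.fst U.hom f) hpq
        simpa only [Category.assoc, bcl_fst] using this
      let w : Spec (CommRingCat.of Ω) ⟶ W.left := pullback.lift _ _ hpV
      let z : Spec (CommRingCat.of Ω) ⟶ pullback W.hom f := pullback.lift w (p ≫ pullback.snd (V i).hom f) (by
        rw [Category.assoc p, ← pullback.condition, ← Category.assoc p]
        exact (Category.assoc _ _ _).symm.trans (congrArg (· ≫ (V i).hom) (pullback.lift_fst _ _ _)))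
      have zi : z ≫ bcl ri = p := pullback.hom_ext
        (by rw [Category.assoc, bcl_fst, ← Category.assoc, pullback.lift_fst]; exact pullback.lift_fst _ _ _)
        (by rw [Category.assoc, bcl_snd, pullback.lift_snd])
      have zj : z ≫ bcl rj = q := pullback.hom_ext
        (by rw [Category.assoc, bcl_fst, ← Category.assoc, pullback.lift_fst]; exact pullback.lift_snd _ _ _)
        (by
          rw [Category.assoc, bcl_snd, pullback.lift_snd]
          have := congrArg (· ≫ pullback.snd U.hom f) hpq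
          simpa only [Category.assoc, bcl_snd] using this)
      have hz : z ≫ pullback.snd W.hom f = η := by
        rw [pullback.lift_snd, ← hp, bcl_snd]
      have := congrArg (fun s : Secs (pullback.snd W.hom f) F' => s.val Ω z η hz) key
      simp only [Secs.res_val] at this ⊢
      refine ((xs i).1.val_congr ((Category.comp_id p).trans zi.symm) _ _).trans (this.trans ?_)
      exact (xs j).1.val_congr (zj.trans (Category.comp_id q).symm) _ _)
  have hσ' : ∀ u, σ.res (bcl (g u)) (bcl_snd (g u)) = (xs u).1 := fun u => Secs.ext' fun Ω _ _ p η h => by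
    have := congrArg (fun s : Secs _ F' => s.val Ω p η ((congrArg (p ≫ ·) (bcl_snd (g u))).trans h)) (hσ u)
    simp only [Secs.res_val] at this ⊢
    exact this.trans ((xs u).1.val_congr (Category.comp_id p) _ _)
  have hc : DCompat φ (pullback.fst U.hom f) σ := by
    intro Ω _ _ p q p₁ q₁ hp hq hpq h
    obtain ⟨u, z', hz'⟩ := hcov (p.base default)
    haveI := het u
    obtain ⟨p', hp', -⟩ := exists_lift (bcl (f := f) (g u)) p z' hz'
    have hw : (p' ≫ pullback.fst (V u).hom f) ≫ (V u).hom = q₁ ≫ f := by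
      rw [← h, ← hp, ← hp', Category.assoc, Category.assoc, Category.assoc, pullback.condition,
        ← Category.assoc (bcl (g u)), bcl_snd]
    let q' : Spec (CommRingCat.of Ω) ⟶ pullback (V u).hom f := pullback.lift _ q₁ hw
    have hq' : q' ≫ bcl (g u) = q := pullback.hom_ext
      (by rw [Category.assoc, bcl_fst, ← Category.assoc, pullback.lift_fst, ← hpq, ← hp', Category.assoc,
        Category.assoc, bcl_fst])
      (by rw [Category.assoc, bcl_snd, pullback.lift_snd, hq])
    have hp₁ : p' ≫ pullback.snd (V u).hom f = p₁ := by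
      rw [← hp, ← hp', Category.assoc, bcl_snd]
    have hq₁ : q' ≫ pullback.snd (V u).hom f = q₁ := pullback.lift_snd _ _ _
    have := (xs u).2 Ω p' q' p₁ q₁ hp₁ hq₁ (pullback.lift_fst _ _ _).symm h
    rw [← hσ' u, Secs.res_val, Secs.res_val] at this
    exact (congrArg (trans φ h) (σ.val_congr hp'.symm _ _)).trans (this.trans (σ.val_congr hq' _ _))
  refine ⟨⟨σ, hc⟩, fun W r hr => Subtype.ext (Secs.ext' fun Ω _ _ p η h => ?_), fun τ hτ => Subtype.ext ?_⟩
  · obtain ⟨u, z', hz'⟩ := hcov ((p ≫ bcl r).base default)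
    haveI := het u
    obtain ⟨p', hp', -⟩ := exists_lift (bcl (f := f) (g u)) (p ≫ bcl r) z' hz'
    let rl : W.left ⟶ U.left := r.left
    let gl : (V u).left ⟶ U.left := (g u).left
    haveI : Etale W.hom := W.prop
    haveI : Etale gl := by
      haveI : Etale U.hom := U.prop
      haveI : Etale (gl ≫ U.hom) := by rw [show gl ≫ U.hom = (V u).hom from hom_left (g u)]; exact (V u).prop
      exact Etale.of_comp gl U.hom
    haveI : Etale (pullback.fst rl gl) := MorphismProperty.pullback_fst _ _ ‹Etale gl›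
    let T : X.Etale := Scheme.Etale.mk (pullback.fst rl gl ≫ W.hom)
    let t₁ : T ⟶ W := MorphismProperty.Over.homMk (pullback.fst rl gl) rfl
    let t₂ : T ⟶ V u := MorphismProperty.Over.homMk (pullback.snd rl gl)
      ((congrArg (pullback.snd rl gl ≫ ·) (hom_left (g u)).symm).trans ((pullback.condition_assoc _).symm.trans
        (congrArg (pullback.fst rl gl ≫ ·) (hom_left r))))
    have hw : t₁ ≫ r = t₂ ≫ g u := MorphismProperty.Over.Hom.ext pullback.condition
    have key := congrArg Subtype.val (hx t₁ t₂ hr (hv u) hw)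
    rw [gluePre_map_val, gluePre_map_val] at key
    have hpV : (p ≫ pullback.fst W.hom f) ≫ rl = (p' ≫ pullback.fst (V u).hom f) ≫ gl := by
      have := congrArg (· ≫ pullback.fst U.hom f) hp'
      simp only [Category.assoc, bcl_fst] at this ⊢
      exact this.symm
    let w : Spec (CommRingCat.of Ω) ⟶ T.left := pullback.lift _ _ hpV
    let z : Spec (CommRingCat.of Ω) ⟶ pullback T.hom f := pullback.lift w η (by
      rw [← h]
      refine ((Category.assoc _ _ _).symm.trans (congrArg (· ≫ W.hom) (pullback.lift_fst _ _ _))).trans ?_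
      rw [Category.assoc, pullback.condition, Category.assoc])
    have z₁ : z ≫ bcl t₁ = p := pullback.hom_ext
      (by rw [Category.assoc, bcl_fst, ← Category.assoc, pullback.lift_fst]; exact pullback.lift_fst _ _ _)
      (by rw [Category.assoc, bcl_snd, pullback.lift_snd]; exact h.symm)
    have h' : p' ≫ pullback.snd (V u).hom f = η := by
      have := congrArg (· ≫ pullback.snd U.hom f) hp'
      simp only [Category.assoc, bcl_snd] at this
      exact this.trans h
    have z₂ : z ≫ bcl t₂ = p' := pullback.hom_ext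
      (by rw [Category.assoc, bcl_fst, ← Category.assoc, pullback.lift_fst]; exact pullback.lift_snd _ _ _)
      (by rw [Category.assoc, bcl_snd, pullback.lift_snd]; exact h'.symm)
    have := congrArg (fun s : Secs (pullback.snd T.hom f) F' => s.val Ω z η (pullback.lift_snd _ _ _)) key
    have e2 := congrArg (fun s : Secs (pullback.snd (V u).hom f) F' => s.val Ω p' η h') (hσ' u)
    simp only [Secs.res_val] at this e2
    rw [gluePre_map_val, Secs.res_val]
    refine (σ.val_congr hp'.symm _ _).trans (e2.trans ?_)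
    refine ((xs u).1.val_congr z₂.symm _ ?_).trans (this.symm.trans ((x r hr).1.val_congr z₁ _ h))
    rw [z₂, h']
  · refine Secs.ext' fun Ω _ _ p η h => ?_
    obtain ⟨u, z', hz'⟩ := hcov (p.base default)
    haveI := het u
    obtain ⟨p', hp', -⟩ := exists_lift (bcl (f := f) (g u)) p z' hz'
    have h' : p' ≫ pullback.snd (V u).hom f = η := by rw [← bcl_snd (g u), ← Category.assoc, hp', h]
    have e1 := congrArg (fun s => s.1.val Ω p' η h') (hτ (g u) (hv u))
    have e2 := congrArg (fun s : Secs (pullback.snd (V u).hom f) F' => s.val Ω p' η h') (hσ' u)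
    simp only [gluePre_map_val, Secs.res_val] at e1 e2
    exact (τ.1.val_congr hp'.symm _ _).trans (e1.trans (e2.symm.trans (σ.val_congr hp' _ _)))

/-- The sheaf of compatible sections. -/
def glueSh : EtDesc.Sh X := ⟨gluePre φ, isSheaf_gluePre φ⟩

end GrothLib.EtDescent
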