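import Groth.Agent.Lib.EtDescent.Glue

/-!
# Spreading compatible sections along submersive morphisms
-/

universe u

open CategoryTheory CategoryTheory.Limits AlgebraicGeometry Opposite
open GrothLib.EtSite GrothLib.EtSec

set_option backward.isDefEq.respectTransparency.types false

noncomputable section

namespace GrothLib.EtDescent

variable {X' X : Scheme.{u}} {f : X' ⟶ X} {F' : EtDesc.Sh X'}
  {φ : (EtDesc.pullSh (pullback.fst f f)).obj F' ≅ (EtDesc.pullSh (pullback.snd f f)).obj F'}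

/-- The transported first restriction, as a section over the double fibre product. -/
def compatLHS {Z' Z : Scheme.{u}} (φ : (EtDesc.pullSh (pullback.fst f f)).obj F' ≅ (EtDesc.pullSh (pullback.snd f f)).obj F')
    {π : Z' ⟶ Z} {a : Z' ⟶ X'} {b : Z ⟶ X} (hb : a ≫ f = π ≫ b) (σ : Secs a F') :
    Secs (pullback.snd π π ≫ a) F' :=
  transSecs φ (a₁ := pullback.fst π π ≫ a)
    ((Category.assoc _ _ _).trans ((congrArg (pullback.fst π π ≫ ·) hb).trans ((pullback.condition_assoc _).trans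
      ((congrArg (pullback.snd π π ≫ ·) hb.symm).trans (Category.assoc _ _ _).symm))))
    (σ.res (pullback.fst π π) rfl)

theorem compatLHS_val {Z' Z : Scheme.{u}} {π : Z' ⟶ Z} {a : Z' ⟶ X'} {b : Z ⟶ X} (hb : a ≫ f = π ≫ b) (σ : Secs a F')
    (Ω : Type u) [Field Ω] [IsSepClosed Ω] (z : Spec (CommRingCat.of Ω) ⟶ pullback π π)
    {p q : Spec (CommRingCat.of Ω) ⟶ Z'} (hzp : z ≫ pullback.fst π π = p) (hzq : z ≫ pullback.snd π π = q)
    {p₁ q₁ : Spec (CommRingCat.of Ω) ⟶ X'} (hp : p ≫ a = p₁) (hq : q ≫ a = q₁) (h : p₁ ≫ f = q₁ ≫ f)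
    (h₂ : z ≫ pullback.snd π π ≫ a = q₁) :
    (compatLHS φ hb σ).val Ω z q₁ h₂ = trans φ h (σ.val Ω p p₁ hp) := by
  subst hzp hzq
  exact (transSecs_val φ _ _ Ω z ((Category.assoc _ _ _).symm.trans hp) h₂).trans rfl

/-- Compatibility is the equality of two sections, hence holds if it holds at one point over each point. -/
theorem dcompat_of_points {Z' Z : Scheme.{u}} {π : Z' ⟶ Z} {a : Z' ⟶ X'} {b : Z ⟶ X} (hb : a ≫ f = π ≫ b)
    (σ : Secs a F')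
    (H : ∀ z : ↥(pullback π π), ∃ (Ω : Type u) (_ : Field Ω) (_ : IsSepClosed Ω)
      (r : Spec (CommRingCat.of Ω) ⟶ pullback π π) (p₁ q₁ : Spec (CommRingCat.of Ω) ⟶ X')
      (hp : (r ≫ pullback.fst π π) ≫ a = p₁) (hq : (r ≫ pullback.snd π π) ≫ a = q₁) (h : p₁ ≫ f = q₁ ≫ f),
      r.base default = z ∧ trans φ h (σ.val Ω (r ≫ pullback.fst π π) p₁ hp) = σ.val Ω (r ≫ pullback.snd π π) q₁ hq) :
    DCompat φ π σ := by
  have key : compatLHS φ hb σ = σ.res (pullback.snd π π) rfl := by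
    refine Secs.eq_of_eqLocus _ _ fun z => ?_
    obtain ⟨Ω, _, _, r, p₁, q₁, hp, hq, h, rfl, he⟩ := H z
    refine (Secs.mem_eqLocus_iff _ _ r q₁ ((Category.assoc _ _ _).symm.trans hq)).2 ?_
    rw [compatLHS_val hb σ Ω r rfl rfl hp hq h, Secs.res_val]
    exact he
  intro Ω _ _ p q p₁ q₁ hp hq hpq h
  let z : Spec (CommRingCat.of Ω) ⟶ pullback π π := pullback.lift p q hpq
  have h₂ : z ≫ pullback.snd π π ≫ a = q₁ :=
    (Category.assoc _ _ _).symm.trans ((congrArg (· ≫ a) (pullback.lift_snd _ _ _)).trans hq)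
  rw [← compatLHS_val hb σ Ω z (pullback.lift_fst _ _ _) (pullback.lift_snd _ _ _) hp hq h h₂, key, Secs.res_val]
  exact σ.val_congr (pullback.lift_snd _ _ _) _ _

/-- Compatible sections spread out along universally submersive morphisms. -/
theorem exists_csecs (hφ : EtDesc.IsCocycle F' φ) {U : X.Etale} {P : Scheme.{u}} (π : P ⟶ U.left) (b : P ⟶ X')
    (hb : b ≫ f = π ≫ U.hom) (hπ : EtDesc.IsUnivSubmersive π) (σQ : Secs b F') (hσ : DCompat φ π σQ) :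
    ∃ σ : CSecs φ U, ∀ (Ω : Type u) [Field Ω] [IsSepClosed Ω] (p : Spec (CommRingCat.of Ω) ⟶ P)
      (p₁ : Spec (CommRingCat.of Ω) ⟶ X') (hp : p ≫ b = p₁) (l : Spec (CommRingCat.of Ω) ⟶ pullback U.hom f)
      (hl : l ≫ pullback.snd U.hom f = p₁), l ≫ pullback.fst U.hom f = p ≫ π →
        σ.1.val Ω l p₁ hl = σQ.val Ω p p₁ hp := by
  let π₀ : pullback U.hom f ⟶ U.left := pullback.fst U.hom f
  let a₀ : pullback U.hom f ⟶ X' := pullback.snd U.hom f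
  have ha₀ : a₀ ≫ f = π₀ ≫ U.hom := pullback.condition.symm
  let g₁ : pullback π π₀ ⟶ P := pullback.fst π π₀
  let g₂ : pullback π π₀ ⟶ pullback U.hom f := pullback.snd π π₀
  have hg : g₁ ≫ π = g₂ ≫ π₀ := pullback.condition
  have hff : (g₁ ≫ b) ≫ f = (g₂ ≫ a₀) ≫ f := by
    rw [Category.assoc, hb, ← Category.assoc g₁, hg, Category.assoc, ← ha₀, Category.assoc]
  let τ : Secs (g₂ ≫ a₀) F' := transSecs φ hff (σQ.res g₁ rfl)
  have hτv : ∀ (Ω : Type u) [Field Ω] [IsSepClosed Ω] (r : Spec (CommRingCat.of Ω) ⟶ pullback π π₀)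
      (p₁ q₁ : Spec (CommRingCat.of Ω) ⟶ X') (hp : (r ≫ g₁) ≫ b = p₁) (hq : r ≫ g₂ ≫ a₀ = q₁)
      (h : p₁ ≫ f = q₁ ≫ f), τ.val Ω r q₁ hq = trans φ h (σQ.val Ω (r ≫ g₁) p₁ hp) := fun Ω _ _ r p₁ q₁ hp hq h =>
    (transSecs_val φ hff _ Ω r ((Category.assoc _ _ _).symm.trans hp) hq).trans rfl
  have hτc : Compat g₂ τ := by
    intro Ω _ _ p q η hp hq hpq
    have hh : ∀ r : Spec (CommRingCat.of Ω) ⟶ pullback π π₀, r ≫ g₂ ≫ a₀ = η → ((r ≫ g₁) ≫ b) ≫ f = η ≫ f :=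
      fun r hr => by
        rw [← hr, Category.assoc r g₁ b, Category.assoc r (g₁ ≫ b) f, hff, ← Category.assoc r]
    have hπ' : (q ≫ g₁) ≫ π = (p ≫ g₁) ≫ π := by
      rw [Category.assoc, Category.assoc, hg, ← Category.assoc, ← Category.assoc, hpq]
    have hpq₁ : ((q ≫ g₁) ≫ b) ≫ f = ((p ≫ g₁) ≫ b) ≫ f := (hh q hq).trans (hh p hp).symm
    rw [hτv Ω p _ η rfl hp (hh p hp), hτv Ω q _ η rfl hq (hh q hq)]
    rw [← hσ Ω (q ≫ g₁) (p ≫ g₁) _ _ rfl rfl hπ' hpq₁, trans_trans hφ hpq₁ (hh p hp) (hh q hq)]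
  have hu₂ : EtDesc.IsUnivSubmersive g₂ := univSubmersive_of_isPullback hπ (IsPullback.of_hasPullback π π₀)
  obtain ⟨s, hs⟩ := exists_descend (hasQuotientBC_of_univSubmersive hu₂) rfl τ hτc
  have hsv : ∀ (Ω : Type u) [Field Ω] [IsSepClosed Ω] (r : Spec (CommRingCat.of Ω) ⟶ pullback π π₀)
      (p : Spec (CommRingCat.of Ω) ⟶ P) (l : Spec (CommRingCat.of Ω) ⟶ pullback U.hom f) (_ : r ≫ g₁ = p)
      (_ : r ≫ g₂ = l) (p₁ q₁ : Spec (CommRingCat.of Ω) ⟶ X') (hp : p ≫ b = p₁) (hl : l ≫ a₀ = q₁)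
      (h : p₁ ≫ f = q₁ ≫ f), s.val Ω l q₁ hl = trans φ h (σQ.val Ω p p₁ hp) := by
    intro Ω _ _ r p l hrp hrl p₁ q₁ hp hl h
    subst hrp hrl
    have hq : r ≫ g₂ ≫ a₀ = q₁ := (Category.assoc _ _ _).symm.trans hl
    rw [← hτv Ω r p₁ q₁ hp hq h, ← hs, Secs.res_val]
  have hc : DCompat φ π₀ s := by
    refine dcompat_of_points ha₀ s fun z => ?_
    obtain ⟨w, hw⟩ := (isQuotientMap_of_univSubmersive hπ).surjective (π₀.base ((pullback.fst π₀ π₀).base z))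
    obtain ⟨y, hy₁, -⟩ := Scheme.Pullback.exists_preimage_pullback (f := pullback.fst π₀ π₀ ≫ π₀) (g := π)
      z w hw.symm
    obtain ⟨Ω, _, _, o, rfl⟩ := Secs.exists_point y
    let T₁ := pullback.fst (pullback.fst π₀ π₀ ≫ π₀) π
    let T₂ := pullback.snd (pullback.fst π₀ π₀ ≫ π₀) π
    let r := o ≫ T₁
    let p := o ≫ T₂
    let l₁ := r ≫ pullback.fst π₀ π₀
    let l₂ := r ≫ pullback.snd π₀ π₀
    have e₁ : p ≫ π = l₁ ≫ π₀ :=
      ((Category.assoc o T₂ π).trans (congrArg (o ≫ ·) pullback.condition.symm)).trans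
        ((Category.assoc o T₁ _).symm.trans (Category.assoc r _ _).symm)
    have e₂ : p ≫ π = l₂ ≫ π₀ := e₁.trans ((Category.assoc r _ _).trans
      ((congrArg (r ≫ ·) pullback.condition).trans (Category.assoc r _ _).symm))
    have hbase : ∀ l : Spec (CommRingCat.of Ω) ⟶ pullback U.hom f, p ≫ π = l ≫ π₀ →
        (p ≫ b) ≫ f = (l ≫ a₀) ≫ f := fun l e =>
      (Category.assoc p b f).trans ((congrArg (p ≫ ·) hb).trans ((Category.assoc p π _).symm.trans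
        ((congrArg (· ≫ U.hom) e).trans ((Category.assoc l π₀ _).trans ((congrArg (l ≫ ·) ha₀.symm).trans
          (Category.assoc l a₀ f).symm)))))
    have hf₁ := hbase l₁ e₁
    have hf₂ := hbase l₂ e₂
    refine ⟨Ω, inferInstance, inferInstance, r, l₁ ≫ a₀, l₂ ≫ a₀, rfl, rfl, hf₁.symm.trans hf₂, hy₁, ?_⟩
    rw [hsv Ω (pullback.lift p l₁ e₁) p l₁ (pullback.lift_fst _ _ _) (pullback.lift_snd _ _ _) _ _ rfl rfl hf₁,
      hsv Ω (pullback.lift p l₂ e₂) p l₂ (pullback.lift_fst _ _ _) (pullback.lift_snd _ _ _) _ _ rfl rfl hf₂,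
      trans_trans hφ]
  refine ⟨⟨s, hc⟩, fun Ω _ _ p p₁ hp l hl hlp => ?_⟩
  rw [hsv Ω (pullback.lift p l hlp.symm) p l (pullback.lift_fst _ _ _) (pullback.lift_snd _ _ _) p₁ p₁ hp hl rfl,
    trans_self hφ]

end GrothLib.EtDescent
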