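import Groth.Agent.Lib.EtDescent.Effective
import Groth.Agent.Lib.EtDescent.Spread
import Groth.Agent.Lib.EtSite.BaseChange

/-!
# Effective descent along integral surjective morphisms
-/

universe u

open CategoryTheory CategoryTheory.Limits AlgebraicGeometry Opposite
open GrothLib.EtSite GrothLib.EtSec

set_option backward.isDefEq.respectTransparency.types false

noncomputable section

namespace GrothLib.EtDescent

variable {X' X : Scheme.{u}} {f : X' ⟶ X} {F' : EtDesc.Sh X'}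
  {φ : (EtDesc.pullSh (pullback.fst f f)).obj F' ≅ (EtDesc.pullSh (pullback.snd f f)).obj F'}
  [IsIntegralHom f] {Ω : Type u} [Field Ω] [IsAlgClosed Ω]

theorem univSubmersive_of_integral [Surjective f] : EtDesc.IsUnivSubmersive f := fun T t => by
  haveI : Surjective (pullback.snd f t) := MorphismProperty.pullback_snd _ _ ‹Surjective f›
  haveI : IsIntegralHom (pullback.snd f t) := MorphismProperty.pullback_snd _ _ ‹IsIntegralHom f›
  exact ⟨(pullback.snd f t).surjective, (pullback.snd f t).isClosedMap.isQuotientMap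
    (pullback.snd f t).continuous (pullback.snd f t).surjective⟩

/-- A stalk element gives a section over an etale neighbourhood with the transported values on the fibre. -/
theorem exists_section_on_fibre (hφ : EtDesc.IsCocycle F' φ) (ξ₀ : Spec (CommRingCat.of Ω) ⟶ X')
    (y : (stalkSh ξ₀).obj F') :
    ∃ (V : X.Etale) (v : Spec (CommRingCat.of Ω) ⟶ V.left) (_ : v ≫ V.hom = ξ₀ ≫ f)
      (z : EtDesc.sect F' ((EtCoh.bc f).obj V)),
      ∀ (ξ : Spec (CommRingCat.of Ω) ⟶ X') (h₀ : ξ₀ ≫ f = ξ ≫ f)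
        (l : Spec (CommRingCat.of Ω) ⟶ ((EtCoh.bc f).obj V).left) (hl : l ≫ ((EtCoh.bc f).obj V).hom = ξ),
        l ≫ pullback.fst V.hom f = v → gSh F' l hl z = trans φ h₀ y := by
  let η := ξ₀ ≫ f
  obtain ⟨W₁, l₁, hl₁, t₁, rfl⟩ := exists_gSh y
  let y := gSh F' l₁ hl₁ t₁
  let Rel : ∀ (ξ : Spec (CommRingCat.of Ω) ⟶ X'), ξ ≫ f = η → ∀ (T : X'.Etale),
      (Scheme.pointSmallEtale ξ).fiber.obj T → F'.obj.obj (op T) → Prop :=
    fun ξ hξ T w s => gSh F' w.left (Over.w w) s = trans φ (p₁ := ξ₀) hξ.symm y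
  obtain ⟨V, v, z, hz⟩ := exists_global_section f (η := η) (P := F'.obj)
    ((isSheaf_iff_isSheaf_of_type _ _).1 F'.property) Rel
    (fun ξ hξ T T' b p s => iff_of_eq (congrArg (· = _)
      (gSh_map b p.left (Over.w p) (Over.w ((Scheme.pointSmallEtale ξ).fiber.map b p)) s)))
    (fun ξ₁ hξ₁ => by
      obtain ⟨W, l, hl, s, hs⟩ := exists_gSh (trans φ (p₁ := ξ₀) hξ₁.symm y)
      let w : (Scheme.pointSmallEtale ξ₁).fiber.obj W := fib ξ₁ l hl
      let wh : W.left ⟶ X' := W.hom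
      let π₁ := pullback.fst (wh ≫ f) η
      let π₂ := pullback.snd (wh ≫ f) η
      have hff : (π₂ ≫ ξ₀) ≫ f = (π₁ ≫ wh) ≫ f :=
        (Category.assoc _ _ _).trans (pullback.condition.symm.trans (Category.assoc _ _ _).symm)
      let A : Secs (π₁ ≫ wh) F' := Secs.ofSect π₁ rfl s
      let B : Secs (π₁ ≫ wh) F' := transSecs φ hff (Secs.ofSect (π₂ ≫ l₁)
        ((Category.assoc _ _ _).trans (congrArg (π₂ ≫ ·) hl₁)) t₁)
      let O : (pullback (wh ≫ f) η).Opens := ⟨Secs.eqLocus A B, Secs.isOpen_eqLocus A B⟩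
      have hval : ∀ (ξ : Spec (CommRingCat.of Ω) ⟶ X') (hξ : ξ ≫ f = η)
          (r : Spec (CommRingCat.of Ω) ⟶ pullback (wh ≫ f) η) (m : Spec (CommRingCat.of Ω) ⟶ W.left)
          (hm : m ≫ W.hom = ξ), r ≫ π₁ = m → r ≫ π₂ = 𝟙 _ →
            (r.base default ∈ O ↔ gSh F' m hm s = trans φ (p₁ := ξ₀) hξ.symm y) := by
        intro ξ hξ r m hm hr₁ hr₂
        subst hr₁
        have h1 : r ≫ π₁ ≫ wh = ξ := (Category.assoc _ _ _).symm.trans hm
        have h2 : r ≫ π₂ ≫ ξ₀ = ξ₀ :=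
          (Category.assoc _ _ _).symm.trans ((congrArg (· ≫ ξ₀) hr₂).trans (Category.id_comp _))
        have e : (r ≫ π₂ ≫ l₁) = l₁ :=
          (Category.assoc _ _ _).symm.trans ((congrArg (· ≫ l₁) hr₂).trans (Category.id_comp _))
        refine (Secs.mem_eqLocus_iff A B r ξ h1).trans ?_
        rw [transSecs_val φ hff _ Ω r h2 h1, Secs.ofSect_val, Secs.ofSect_val,
          gSh_congr e _ hl₁ t₁]
      obtain ⟨V, v, T, a, b, p₀, hp₀, hgood⟩ := exists_stage_open f W hξ₁ w O (fun r h1 h2 =>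
        (hval ξ₁ hξ₁ r l hl h1 h2).2 hs)
      refine ⟨V, v, T, b, F'.obj.map a.op s, p₀, hp₀, fun ξ hξ p hp => ?_⟩
      obtain ⟨r, hr₁, hr₂, hrO⟩ := hgood ξ hξ p hp
      show gSh F' p.left (Over.w p) (F'.obj.map a.op s) = _
      rw [gSh_map a p.left (Over.w p) (Over.w ((Scheme.pointSmallEtale ξ).fiber.map a p))]
      exact (hval ξ hξ r _ (Over.w ((Scheme.pointSmallEtale ξ).fiber.map a p)) hr₁ hr₂).1 hrO)
  refine ⟨V, v.left, Over.w v, z, fun ξ h₀ l hl hlv => ?_⟩
  have e : l = (liftPt f v ξ h₀.symm).left := pullback.hom_ext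
    (hlv.trans (pullback.lift_fst _ _ _).symm) (hl.trans (pullback.lift_snd _ _ _).symm)
  exact (gSh_congr e hl (Over.w (liftPt f v ξ h₀.symm)) z).trans (hz ξ h₀.symm)

theorem extends_of_integral (hφ : EtDesc.IsCocycle F' φ) : Extends φ := by
  intro x
  obtain ⟨Ω, _, _, ξ₀, hx⟩ := Secs.exists_point x
  refine ⟨Ω, inferInstance, inferInstance, ξ₀, hx, fun y => ?_⟩
  obtain ⟨V, v, hv, z, hz⟩ := exists_section_on_fibre hφ ξ₀ y
  let π : pullback V.hom f ⟶ V.left := pullback.fst V.hom f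
  let a : pullback V.hom f ⟶ X' := pullback.snd V.hom f
  have hb : a ≫ f = π ≫ V.hom := pullback.condition.symm
  let σ₀ : Secs a F' := secOf F' (U := (EtCoh.bc f).obj V) z
  let P := pullback π π
  let ρ : P ⟶ V.left := pullback.fst π π ≫ π
  haveI : IsIntegralHom π := MorphismProperty.pullback_fst _ _ ‹IsIntegralHom f›
  haveI : IsIntegralHom (pullback.fst π π) := MorphismProperty.pullback_fst _ _ ‹IsIntegralHom π›
  haveI : IsIntegralHom ρ := inferInstance
  let E := Secs.eqLocus (compatLHS φ hb σ₀) (σ₀.res (pullback.snd π π) rfl)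
  have hfib : ∀ w : P, ρ.base w = v.base default → w ∈ E := by
    intro w hw
    obtain ⟨u, hu, -⟩ := Scheme.Pullback.exists_preimage_pullback (f := ρ) (g := v) w default hw
    haveI : IsIntegralHom (pullback.snd ρ v) := MorphismProperty.pullback_snd _ _ ‹IsIntegralHom ρ›
    obtain ⟨q, hq, hqu⟩ := exists_section_point (pullback.snd ρ v) u
    let r : Spec (CommRingCat.of Ω) ⟶ P := q ≫ pullback.fst ρ v
    have hrv : r ≫ ρ = v :=
      (Category.assoc _ _ _).trans ((congrArg (q ≫ ·) pullback.condition).trans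
        ((Category.assoc _ _ _).symm.trans ((congrArg (· ≫ v) hq).trans (Category.id_comp _))))
    have hw' : r.base default = w :=
      (congrArg (pullback.fst ρ v).base hqu).trans hu
    rw [← hw']
    let l₁ := r ≫ pullback.fst π π
    let l₂ := r ≫ pullback.snd π π
    have e₁ : l₁ ≫ π = v := (Category.assoc _ _ _).trans hrv
    have e₂ : l₂ ≫ π = v :=
      (Category.assoc _ _ _).trans ((congrArg (r ≫ ·) pullback.condition.symm).trans hrv)
    have hη : ∀ l : Spec (CommRingCat.of Ω) ⟶ pullback V.hom f, l ≫ π = v → ξ₀ ≫ f = (l ≫ a) ≫ f :=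
      fun l hl => hv.symm.trans ((congrArg (· ≫ V.hom) hl.symm).trans ((Category.assoc _ _ _).trans
        ((congrArg (l ≫ ·) hb.symm).trans (Category.assoc _ _ _).symm)))
    refine (Secs.mem_eqLocus_iff _ _ r (l₂ ≫ a) (Category.assoc _ _ _).symm).2 ?_
    rw [compatLHS_val hb σ₀ Ω r rfl rfl rfl rfl ((hη l₁ e₁).symm.trans (hη l₂ e₂)), Secs.res_val]
    refine (congrArg (trans φ _) ((secOf_val F' (U := (EtCoh.bc f).obj V) z Ω l₁ _ rfl).trans
      (hz _ (hη l₁ e₁) l₁ rfl e₁))).trans ?_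
    refine (trans_trans hφ _ _ (hη l₂ e₂) y).trans ?_
    exact ((secOf_val F' (U := (EtCoh.bc f).obj V) z Ω l₂ _ rfl).trans (hz _ (hη l₂ e₂) l₂ rfl e₂)).symm
  let O : V.left.Opens := ⟨(ρ.base '' Eᶜ)ᶜ,
    (ρ.isClosedMap _ (Secs.isOpen_eqLocus _ _).isClosed_compl).isOpen_compl⟩
  have hvO : v.base default ∈ O := fun ⟨w, hwE, hw⟩ => hwE (hfib w hw)
  let vh : V.left ⟶ X := V.hom
  haveI : Etale vh := V.prop
  let U : X.Etale := Scheme.Etale.mk (O.ι ≫ vh)
  let ro : U ⟶ V := MorphismProperty.Over.homMk O.ι rfl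
  obtain ⟨v', hv', -⟩ := exists_lift O.ι v ⟨_, hvO⟩ rfl
  let σ : Secs (pullback.snd U.hom f) F' := σ₀.res (bcl ro) (bcl_snd ro)
  have hσ : DCompat φ (pullback.fst U.hom f) σ := by
    intro K _ _ p q p₁ q₁ hp hq hpq h
    have hπ : (p ≫ bcl ro) ≫ π = (q ≫ bcl ro) ≫ π := by
      rw [Category.assoc, Category.assoc, bcl_fst, ← Category.assoc, hpq, Category.assoc]
    let r : Spec (CommRingCat.of K) ⟶ P := pullback.lift (p ≫ bcl ro) (q ≫ bcl ro) hπ
    have hr₁ : r ≫ pullback.fst π π = p ≫ bcl ro := pullback.lift_fst _ _ _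
    have hr₂ : r ≫ pullback.snd π π = q ≫ bcl ro := pullback.lift_snd _ _ _
    have hrE : r.base default ∈ E := by
      by_contra hc
      have hO : ρ.base (r.base default) ∈ O := by
        have e : r ≫ ρ = (p ≫ pullback.fst U.hom f) ≫ O.ι := by
          refine (Category.assoc _ _ _).symm.trans ((congrArg (· ≫ π) hr₁).trans ?_)
          exact (Category.assoc _ _ _).trans ((congrArg (p ≫ ·) (bcl_fst ro)).trans (Category.assoc _ _ _).symm)
        rw [show ρ.base (r.base default) = O.ι.base ((p ≫ pullback.fst U.hom f).base default) from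
          congrArg (fun k : Spec (CommRingCat.of K) ⟶ V.left => k.base default) e]
        exact ((p ≫ pullback.fst U.hom f).base default).2
      exact hO ⟨_, hc, rfl⟩
    have hp₁ : (p ≫ bcl ro) ≫ a = p₁ := (Category.assoc _ _ _).trans ((congrArg (p ≫ ·) (bcl_snd ro)).trans hp)
    have hq₁ : (q ≫ bcl ro) ≫ a = q₁ := (Category.assoc _ _ _).trans ((congrArg (q ≫ ·) (bcl_snd ro)).trans hq)
    have h2 : r ≫ pullback.snd π π ≫ a = q₁ := (Category.assoc _ _ _).symm.trans ((congrArg (· ≫ a) hr₂).trans hq₁)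
    have := (Secs.mem_eqLocus_iff _ _ r q₁ h2).1 hrE
    rw [compatLHS_val hb σ₀ K r hr₁ hr₂ hp₁ hq₁ h h2, Secs.res_val] at this
    rw [Secs.res_val, Secs.res_val]
    exact this.trans (σ₀.val_congr hr₂ _ hq₁)
  have hU : v' ≫ U.hom = ξ₀ ≫ f := (Category.assoc _ _ _).symm.trans ((congrArg (· ≫ vh) hv').trans hv)
  let l : Spec (CommRingCat.of Ω) ⟶ pullback U.hom f := pullback.lift v' ξ₀ hU
  refine ⟨U, l, pullback.lift_snd _ _ _, ⟨σ, hσ⟩, ?_⟩
  have hl : (l ≫ bcl ro) ≫ pullback.snd V.hom f = ξ₀ :=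
    (Category.assoc _ _ _).trans ((congrArg (l ≫ ·) (bcl_snd ro)).trans (pullback.lift_snd _ _ _))
  refine (σ.val_congr rfl _ (pullback.lift_snd _ _ _)).trans ?_
  show σ₀.val Ω (l ≫ bcl ro) ξ₀ hl = y
  refine (secOf_val F' (U := (EtCoh.bc f).obj V) z Ω (l ≫ bcl ro) ξ₀ hl).trans ?_
  refine (hz ξ₀ rfl (l ≫ bcl ro) hl ?_).trans (trans_self hφ rfl y)
  exact (Category.assoc _ _ _).trans ((congrArg (l ≫ ·) (bcl_fst ro)).trans
    ((Category.assoc _ _ _).symm.trans ((congrArg (· ≫ O.ι) (pullback.lift_fst _ _ _)).trans hv')))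

omit Ω in
theorem isEffective_of_integral [Surjective f] (hφ : EtDesc.IsCocycle F' φ) : EtDesc.IsEffective f F' φ :=
  isEffective_of_extends univSubmersive_of_integral hφ (extends_of_integral hφ)

end GrothLib.EtDescent
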