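import Groth.Agent.Lib.EtDescent.Spread
import Groth.Agent.Lib.EtSec.Criterion

/-!
# Extension of stalk elements of a descent datum from local data of the morphism
-/

universe u

open CategoryTheory CategoryTheory.Limits AlgebraicGeometry Opposite
open GrothLib.EtSite GrothLib.EtSec

set_option backward.isDefEq.respectTransparency.types false

noncomputable section

namespace GrothLib.EtDescent

variable {X' X : Scheme.{u}} {f : X' ⟶ X} {F' : EtDesc.Sh X'}
  {φ : (EtDesc.pullSh (pullback.fst f f)).obj F' ≅ (EtDesc.pullSh (pullback.snd f f)).obj F'}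

theorem point_bmap_fst {A S T Z Z' : Scheme.{u}} {z : Z ⟶ S} {z' : Z' ⟶ S} (g : T ⟶ S) (m : Z ⟶ Z')
    (e : m ≫ z' = z) (v : A ⟶ pullback z g) :
    (v ≫ bmap g m e) ≫ pullback.fst z' g = (v ≫ pullback.fst z g) ≫ m :=
  (Category.assoc _ _ _).trans ((congrArg (v ≫ ·) (bmap_fst g m e)).trans (Category.assoc _ _ _).symm)

theorem point_bmap_snd {A S T Z Z' : Scheme.{u}} {z : Z ⟶ S} {z' : Z' ⟶ S} (g : T ⟶ S) (m : Z ⟶ Z')
    (e : m ≫ z' = z) (v : A ⟶ pullback z g) :
    (v ≫ bmap g m e) ≫ pullback.snd z' g = v ≫ pullback.snd z g :=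
  (Category.assoc _ _ _).trans (congrArg (v ≫ ·) (bmap_snd g m e))

theorem exists_extension_of_keyData (hφ : EtDesc.IsCocycle F' φ) {S Y Q : Scheme.{u}} (j : S ⟶ X) [Etale j]
    (i : Y ⟶ X') [Etale i] (fS : Y ⟶ S) (hsq : fS ≫ j = i ≫ f) (g : Q ⟶ S) (h : Q ⟶ X') (hgh : h ≫ f = g ≫ j)
    [QuasiCompact g] [QuasiSeparated g] (hg : EtDesc.IsUnivSubmersive g)
    {Ω : Type u} [Field Ω] [IsSepClosed Ω] (ξY : Spec (CommRingCat.of Ω) ⟶ Y) (ξQ : Spec (CommRingCat.of Ω) ⟶ Q)
    (ξ : Spec (CommRingCat.of Ω) ⟶ X') (hY : ξY ≫ i = ξ) (hQ : ξQ ≫ h = ξ) (hQS : ξQ ≫ g = ξY ≫ fS)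
    (hk : ∀ {T : Scheme.{u}} (g' : T ⟶ S) [QuasiCompact g'] [QuasiSeparated g'] (F : EtDesc.Sh T), KeyData g' fS F ξY)
    (y : (stalkSh ξ).obj F') :
    ∃ (U : X.Etale) (l : Spec (CommRingCat.of Ω) ⟶ pullback U.hom f) (hl : l ≫ pullback.snd U.hom f = ξ)
      (σ : CSecs φ U), σ.1.val Ω l ξ hl = y := by
  obtain ⟨W₁, l, hl, t, rfl⟩ := exists_gSh y
  let w₁ : W₁.left ⟶ X' := W₁.hom
  haveI : Etale w₁ := W₁.prop
  haveI : Etale (pullback.fst i w₁) := MorphismProperty.pullback_fst _ _ ‹Etale w₁›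
  let UY : Y.Etale := Scheme.Etale.mk (pullback.fst i w₁)
  let m₁ : UY.left ⟶ W₁.left := pullback.snd i w₁
  let q : Spec (CommRingCat.of Ω) ⟶ UY.left := pullback.lift ξY l (hY.trans hl.symm)
  have hq : q ≫ UY.hom = ξY := pullback.lift_fst _ _ _
  have hm₁ : m₁ ≫ W₁.hom = UY.hom ≫ i := pullback.condition.symm
  let u₀ : UY.left ⟶ S := UY.hom ≫ fS
  have h₀ : (pullback.fst u₀ g ≫ UY.hom ≫ i) ≫ f = (pullback.snd u₀ g ≫ h) ≫ f := by
    rw [Category.assoc, Category.assoc UY.hom, ← hsq, ← Category.assoc UY.hom, Category.assoc _ h, hgh,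
      pullback.condition_assoc]
  let σ₀ : Secs (pullback.snd u₀ g ≫ h) F' :=
    transSecs φ h₀ (Secs.ofSect (pullback.fst u₀ g ≫ m₁) ((Category.assoc _ _ _).trans (congrArg (_ ≫ ·) hm₁)) t)
  obtain ⟨W, lW, hlW, s, U', r, m, hm, q', hq', hqr, hqm, hres⟩ :=
    (hk g ((EtDesc.pullSh h).obj F')).surj q hq (pullSecs rfl σ₀)
  let sQ : Secs (pullback.snd W.hom g ≫ h) F' := pushSecs rfl s
  -- the spread section at the points over `U'`
  have hsQ : ∀ (K : Type u) [Field K] [IsSepClosed K] (v : Spec (CommRingCat.of K) ⟶ pullback (U'.hom ≫ fS) g)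
      (p₀ p₁ : Spec (CommRingCat.of K) ⟶ X') (h₁ : (v ≫ bmap g m hm) ≫ pullback.snd W.hom g ≫ h = p₁)
      (h₂ : ((v ≫ pullback.fst (U'.hom ≫ fS) g) ≫ r.left ≫ m₁) ≫ W₁.hom = p₀) (hp : p₀ ≫ f = p₁ ≫ f),
      sQ.val K (v ≫ bmap g m hm) p₁ h₁ =
        trans φ hp (gSh F' ((v ≫ pullback.fst (U'.hom ≫ fS) g) ≫ r.left ≫ m₁) h₂ t) := by
    intro K _ _ v p₀ p₁ h₁ h₂ hp
    have er : r.left ≫ u₀ = U'.hom ≫ fS :=
      (Category.assoc _ _ _).symm.trans (congrArg (· ≫ fS) (MorphismProperty.Over.w r))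
    have e := congrArg (fun s' : Secs (pullback.snd (U'.hom ≫ fS) g) _ => pushSecs (h := h) (F := F') rfl s') hres
    simp only [resT] at e
    rw [← res_pushSecs (bmap g r.left er) _ rfl (cb := by rw [← Category.assoc, bmap_snd]),
      ← res_pushSecs (bmap g m hm) _ rfl (cb := by rw [← Category.assoc, bmap_snd]), pushSecs_pullSecs] at e
    have hv : v ≫ pullback.snd (U'.hom ≫ fS) g ≫ h = p₁ := by
      rw [← h₁, Category.assoc v, ← Category.assoc (bmap g m hm), bmap_snd]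
    have := congrArg (fun τ : Secs (pullback.snd (U'.hom ≫ fS) g ≫ h) F' => τ.val K v p₁ hv) e
    simp only [Secs.res_val] at this
    refine this.symm.trans ?_
    have hl' : (v ≫ bmap g r.left er) ≫ pullback.fst u₀ g ≫ m₁ =
        (v ≫ pullback.fst (U'.hom ≫ fS) g) ≫ r.left ≫ m₁ := by
      simp only [Category.assoc, bmap_fst_assoc]
    have h₃ : (v ≫ bmap g r.left er) ≫ pullback.fst u₀ g ≫ UY.hom ≫ i = p₀ := by
      rw [← hm₁, ← h₂, ← hl']; simp only [Category.assoc]
    rw [transSecs_val φ h₀ _ K (v ≫ bmap g r.left er) h₃, Secs.ofSect_val]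
    exact congrArg (trans φ hp) (gSh_congr hl' _ h₂ t)
  let R := pullback g g
  let gR : R ⟶ S := pullback.fst g g ≫ g
  let hR : R ⟶ X' := pullback.snd g g ≫ h
  let d₁ : pullback W.hom gR ⟶ pullback W.hom g :=
    pullback.lift (pullback.fst W.hom gR) (pullback.snd W.hom gR ≫ pullback.fst g g)
      (pullback.condition.trans (Category.assoc _ _ _).symm)
  let d₂ : pullback W.hom gR ⟶ pullback W.hom g :=
    pullback.lift (pullback.fst W.hom gR) (pullback.snd W.hom gR ≫ pullback.snd g g)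
      (pullback.condition.trans ((congrArg (pullback.snd W.hom gR ≫ ·) pullback.condition).trans
        (Category.assoc _ _ _).symm))
  have hd : (d₁ ≫ pullback.snd W.hom g ≫ h) ≫ f = (d₂ ≫ pullback.snd W.hom g ≫ h) ≫ f := by
    simp only [Category.assoc, hgh, d₁, d₂, pullback.lift_snd_assoc]
    rw [pullback.condition_assoc]
  have hdf₁ : ∀ {A : Scheme.{u}} (w : A ⟶ pullback W.hom gR),
      (w ≫ d₁) ≫ pullback.fst W.hom g = w ≫ pullback.fst W.hom gR := fun w =>
    (Category.assoc _ _ _).trans (congrArg (w ≫ ·) (pullback.lift_fst _ _ _))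
  have hdf₂ : ∀ {A : Scheme.{u}} (w : A ⟶ pullback W.hom gR),
      (w ≫ d₂) ≫ pullback.fst W.hom g = w ≫ pullback.fst W.hom gR := fun w =>
    (Category.assoc _ _ _).trans (congrArg (w ≫ ·) (pullback.lift_fst _ _ _))
  have hds₁ : ∀ {A : Scheme.{u}} (w : A ⟶ pullback W.hom gR),
      (w ≫ d₁) ≫ pullback.snd W.hom g = (w ≫ pullback.snd W.hom gR) ≫ pullback.fst g g := fun w =>
    (Category.assoc _ _ _).trans ((congrArg (w ≫ ·) (pullback.lift_snd _ _ _)).trans (Category.assoc _ _ _).symm)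
  have hds₂ : ∀ {A : Scheme.{u}} (w : A ⟶ pullback W.hom gR),
      (w ≫ d₂) ≫ pullback.snd W.hom g = (w ≫ pullback.snd W.hom gR) ≫ pullback.snd g g := fun w =>
    (Category.assoc _ _ _).trans ((congrArg (w ≫ ·) (pullback.lift_snd _ _ _)).trans (Category.assoc _ _ _).symm)
  have eR : pullback.snd W.hom gR ≫ hR = d₂ ≫ pullback.snd W.hom g ≫ h := by
    simp only [d₂, hR, pullback.lift_snd_assoc, Category.assoc]
  let sA : Secs (pullback.snd W.hom gR) ((EtDesc.pullSh hR).obj F') :=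
    pullSecs eR (transSecs φ hd (sQ.res d₁ rfl))
  let sB : Secs (pullback.snd W.hom gR) ((EtDesc.pullSh hR).obj F') := pullSecs eR (sQ.res d₂ rfl)
  have hAB : resT gR m hm sA = resT gR m hm sB := by
    refine Secs.ext' fun K _ _ v ζ hv => (pst_bijective hR F' (η := ζ ≫ hR) rfl).injective ?_
    rw [Secs.res_val, Secs.res_val, pst_pullSecs_val, pst_pullSecs_val]
    let v₁ : Spec (CommRingCat.of K) ⟶ pullback (U'.hom ≫ fS) g :=
      pullback.lift (v ≫ pullback.fst _ gR) ((v ≫ pullback.snd _ gR) ≫ pullback.fst g g) (by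
        simp only [Category.assoc]; rw [pullback.condition])
    let v₂ : Spec (CommRingCat.of K) ⟶ pullback (U'.hom ≫ fS) g :=
      pullback.lift (v ≫ pullback.fst _ gR) ((v ≫ pullback.snd _ gR) ≫ pullback.snd g g) (by
        simp only [Category.assoc]; rw [pullback.condition, ← pullback.condition (f := g) (g := g)])
    have ev₁ : (v ≫ bmap gR m hm) ≫ d₁ = v₁ ≫ bmap g m hm := by
      apply pullback.hom_ext
      · exact (hdf₁ _).trans ((point_bmap_fst gR m hm v).trans
          ((congrArg (· ≫ m) (pullback.lift_fst _ _ _).symm).trans (point_bmap_fst g m hm v₁).symm))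
      · exact (hds₁ _).trans ((congrArg (· ≫ pullback.fst g g) (point_bmap_snd gR m hm v)).trans
          ((pullback.lift_snd _ _ _).symm.trans (point_bmap_snd g m hm v₁).symm))
    have ev₂ : (v ≫ bmap gR m hm) ≫ d₂ = v₂ ≫ bmap g m hm := by
      apply pullback.hom_ext
      · exact (hdf₂ _).trans ((point_bmap_fst gR m hm v).trans
          ((congrArg (· ≫ m) (pullback.lift_fst _ _ _).symm).trans (point_bmap_fst g m hm v₂).symm))
      · exact (hds₂ _).trans ((congrArg (· ≫ pullback.snd g g) (point_bmap_snd gR m hm v)).trans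
          ((pullback.lift_snd _ _ _).symm.trans (point_bmap_snd g m hm v₂).symm))
    let p₀ := ((v ≫ pullback.fst (U'.hom ≫ fS) gR) ≫ r.left ≫ m₁) ≫ W₁.hom
    let p₁ := (v₁ ≫ bmap g m hm) ≫ pullback.snd W.hom g ≫ h
    have hA : (v ≫ bmap gR m hm) ≫ d₁ ≫ pullback.snd W.hom g ≫ h = p₁ := by
      rw [← Category.assoc, ev₁]
    have hB : (v₂ ≫ bmap g m hm) ≫ pullback.snd W.hom g ≫ h = ζ ≫ hR := by
      rw [← ev₂, Category.assoc (v ≫ bmap gR m hm), ← eR, ← Category.assoc, Category.assoc v, bmap_snd, hv]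
    have f₀ : v₁ ≫ pullback.fst (U'.hom ≫ fS) g = v ≫ pullback.fst (U'.hom ≫ fS) gR := pullback.lift_fst _ _ _
    have h01 : p₀ ≫ f = p₁ ≫ f := by
      have e : r.left ≫ UY.hom = U'.hom := MorphismProperty.Over.w r
      have e₀ : p₀ ≫ f = (v₁ ≫ pullback.fst (U'.hom ≫ fS) g) ≫ (U'.hom ≫ fS) ≫ j := by
        simp only [p₀, f₀, Category.assoc]
        rw [← Category.assoc m₁, hm₁, Category.assoc, ← hsq, ← Category.assoc r.left, e]
      have e₁ : p₁ ≫ f = (v₁ ≫ pullback.snd (U'.hom ≫ fS) g) ≫ g ≫ j :=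
        (Category.assoc _ _ _).trans ((congrArg (_ ≫ ·) ((Category.assoc _ _ _).trans (congrArg (_ ≫ ·) hgh))).trans
          ((Category.assoc _ _ _).symm.trans (congrArg (· ≫ g ≫ j) (point_bmap_snd g m hm v₁))))
      refine e₀.trans (Eq.trans ?_ e₁.symm)
      exact (Category.assoc _ _ _).trans ((congrArg (v₁ ≫ ·) (pullback.condition_assoc j)).trans
        (Category.assoc _ _ _).symm)
    have h12 : p₁ ≫ f = (ζ ≫ hR) ≫ f := by
      rw [← hB, ← ev₂, ← hA]
      exact (Category.assoc _ _ _).trans ((congrArg (_ ≫ ·) hd).trans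
        ((Category.assoc _ _ _).symm.trans (congrArg (· ≫ f) (Category.assoc _ _ _).symm)))
    have f₁ : v₁ ≫ pullback.fst (U'.hom ≫ fS) g = v ≫ pullback.fst (U'.hom ≫ fS) gR := pullback.lift_fst _ _ _
    have f₂ : v₂ ≫ pullback.fst (U'.hom ≫ fS) g = v ≫ pullback.fst (U'.hom ≫ fS) gR := pullback.lift_fst _ _ _
    rw [transSecs_val φ hd _ K (v ≫ bmap gR m hm) hA, Secs.res_val, Secs.res_val]
    refine (congrArg (trans φ _) ((sQ.val_congr ev₁ _ rfl).trans (hsQ K v₁ p₀ p₁ rfl (by rw [f₁]) h01))).trans ?_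
    refine Eq.trans ?_ ((sQ.val_congr ev₂ _ hB).trans (hsQ K v₂ p₀ (ζ ≫ hR) hB (by rw [f₂]) (h01.trans h12))).symm
    rw [trans_trans hφ h01 _ (h01.trans h12)]
    exact congrArg (trans φ _) (gSh_congr (by rw [f₁, f₂]) _ _ t)
  obtain ⟨W', r', l', hl', hlr', heq⟩ :=
    (hk gR ((EtDesc.pullSh hR).obj F')).inj lW hlW sA sB q' hq' m m hm hm hqm hqm hAB
  let wS : W'.left ⟶ S := W'.hom
  haveI : Etale wS := W'.prop
  let U : X.Etale := Scheme.Etale.mk (wS ≫ j)
  have er' : r'.left ≫ W.hom = W'.hom := MorphismProperty.Over.w r'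
  let π : pullback W'.hom g ⟶ U.left := pullback.fst W'.hom g
  let b : pullback W'.hom g ⟶ X' := pullback.snd W'.hom g ≫ h
  have hb : b ≫ f = π ≫ U.hom := by
    show (pullback.snd W'.hom g ≫ h) ≫ f = pullback.fst W'.hom g ≫ wS ≫ j
    rw [Category.assoc, hgh, ← pullback.condition_assoc]
  let sQ' : Secs b F' := sQ.res (bmap g r'.left er') (bmap_snd_assoc g r'.left er' h)
  have hdc : DCompat φ π sQ' := by
    intro K _ _ p p' p₁ p₁' hp hp' hpp h'
    let ρ : Spec (CommRingCat.of K) ⟶ R := pullback.lift (p ≫ pullback.snd W'.hom g) (p' ≫ pullback.snd W'.hom g) (by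
      rw [Category.assoc, Category.assoc, ← pullback.condition, ← Category.assoc, ← Category.assoc]
      exact congrArg (· ≫ W'.hom) hpp)
    let z : Spec (CommRingCat.of K) ⟶ pullback W'.hom gR := pullback.lift (p ≫ π) ρ (by
      show (p ≫ pullback.fst W'.hom g) ≫ W'.hom = ρ ≫ pullback.fst g g ≫ g
      rw [Category.assoc, pullback.condition, pullback.lift_fst_assoc, Category.assoc])
    have e₁ : (z ≫ bmap gR r'.left er') ≫ d₁ = p ≫ bmap g r'.left er' := by
      apply pullback.hom_ext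
      · exact (hdf₁ _).trans ((point_bmap_fst gR _ er' z).trans
          ((congrArg (· ≫ r'.left) (pullback.lift_fst _ _ _)).trans (point_bmap_fst g _ er' p).symm))
      · exact (hds₁ _).trans ((congrArg (· ≫ pullback.fst g g) ((point_bmap_snd gR _ er' z).trans
          (pullback.lift_snd _ _ _))).trans ((pullback.lift_fst _ _ _).trans (point_bmap_snd g _ er' p).symm))
    have e₂ : (z ≫ bmap gR r'.left er') ≫ d₂ = p' ≫ bmap g r'.left er' := by
      apply pullback.hom_ext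
      · exact (hdf₂ _).trans ((point_bmap_fst gR _ er' z).trans
          ((congrArg (· ≫ r'.left) ((pullback.lift_fst _ _ _).trans hpp)).trans (point_bmap_fst g _ er' p').symm))
      · exact (hds₂ _).trans ((congrArg (· ≫ pullback.snd g g) ((point_bmap_snd gR _ er' z).trans
          (pullback.lift_snd _ _ _))).trans ((pullback.lift_snd _ _ _).trans (point_bmap_snd g _ er' p').symm))
    have hA : (z ≫ bmap gR r'.left er') ≫ d₁ ≫ pullback.snd W.hom g ≫ h = p₁ := by
      rw [← Category.assoc, e₁, Category.assoc, bmap_snd_assoc]; exact hp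
    have hB : (z ≫ bmap gR r'.left er') ≫ d₂ ≫ pullback.snd W.hom g ≫ h = p₁' := by
      rw [← Category.assoc, e₂, Category.assoc, bmap_snd_assoc]; exact hp'
    have hz : ρ ≫ hR = p₁' := by
      simp only [ρ, hR, pullback.lift_snd_assoc, Category.assoc]; exact hp'
    have hz' : z ≫ pullback.snd W'.hom gR = ρ := pullback.lift_snd _ _ _
    have := congrArg (fun τ : Secs (pullback.snd W'.hom gR) _ => pst hR F' hz (τ.val K z ρ hz')) heq
    simp only [resT, Secs.res_val] at this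
    rw [pst_pullSecs_val, pst_pullSecs_val, transSecs_val φ hd _ K _ hA hB, Secs.res_val, Secs.res_val] at this
    rw [Secs.res_val, Secs.res_val]
    exact (congrArg (trans φ h') (sQ.val_congr e₁.symm _ _)).trans (this.trans (sQ.val_congr e₂ _ _))
  have hπ : EtDesc.IsUnivSubmersive π := univSubmersive_of_isPullback hg (IsPullback.of_hasPullback W'.hom g).flip
  obtain ⟨σ, hσ⟩ := exists_csecs hφ π b hb hπ sQ' hdc
  let p : Spec (CommRingCat.of Ω) ⟶ pullback W'.hom g := pullback.lift l' ξQ (hl'.trans hQS.symm)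
  have hU : l' ≫ U.hom = ξ ≫ f := by
    show l' ≫ wS ≫ j = ξ ≫ f
    rw [← Category.assoc, hl', Category.assoc, hsq, ← Category.assoc, hY]
  let lU : Spec (CommRingCat.of Ω) ⟶ pullback U.hom f := pullback.lift l' ξ hU
  refine ⟨U, lU, pullback.lift_snd _ _ _, σ, ?_⟩
  have hp : p ≫ b = ξ := (Category.assoc _ _ _).symm.trans ((congrArg (· ≫ h) (pullback.lift_snd _ _ _)).trans hQ)
  refine (hσ Ω p ξ hp lU (pullback.lift_snd _ _ _) ((pullback.lift_fst _ _ _).trans (pullback.lift_fst _ _ _).symm)).trans ?_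
  let v : Spec (CommRingCat.of Ω) ⟶ pullback (U'.hom ≫ fS) g := pullback.lift q' ξQ (by
    rw [hQS, ← Category.assoc, hq'])
  have ev : p ≫ bmap g r'.left er' = v ≫ bmap g m hm := by
    apply pullback.hom_ext
    · exact (point_bmap_fst g _ er' p).trans ((congrArg (· ≫ r'.left) (pullback.lift_fst _ _ _)).trans
        (hlr'.trans (hqm.symm.trans ((congrArg (· ≫ m) (pullback.lift_fst _ _ _).symm).trans (point_bmap_fst g m hm v).symm))))
    · exact (point_bmap_snd g _ er' p).trans ((pullback.lift_snd _ _ _).trans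
        ((pullback.lift_snd _ _ _).symm.trans (point_bmap_snd g m hm v).symm))
  have h₁ : (v ≫ bmap g m hm) ≫ pullback.snd W.hom g ≫ h = ξ := by
    simp only [v, Category.assoc, bmap_snd_assoc, pullback.lift_snd_assoc, hQ]
  have el : (v ≫ pullback.fst (U'.hom ≫ fS) g) ≫ r.left ≫ m₁ = l := by
    rw [pullback.lift_fst, ← Category.assoc, hqr]; exact pullback.lift_snd _ _ _
  rw [Secs.res_val, sQ.val_congr ev _ h₁, hsQ Ω v ξ ξ h₁ ((congrArg (· ≫ W₁.hom) el).trans hl) rfl, trans_self hφ]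
  exact gSh_congr el _ _ t

end GrothLib.EtDescent
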