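import Groth.Agent.Lib.EtSec.Global

/-!
# Stalks of iterated inverse images of sheaves of sets
-/

universe u

open CategoryTheory CategoryTheory.Limits AlgebraicGeometry Opposite
open GrothLib.EtSite GrothLib.EtSec

set_option backward.isDefEq.respectTransparency.types false

noncomputable section

namespace GrothLib.EtDescent

variable {Z Y X : Scheme.{u}} {Ω : Type u} [Field Ω] [IsSepClosed Ω]

/-- The stalk of an inverse image, read at the image geometric point. -/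
def pst (f : Z ⟶ Y) (F : EtDesc.Sh Y) {ξ : Spec (CommRingCat.of Ω) ⟶ Z} {η : Spec (CommRingCat.of Ω) ⟶ Y}
    (h : ξ ≫ f = η) (y : (stalkSh ξ).obj ((EtDesc.pullSh f).obj F)) : (stalkSh η).obj F :=
  h ▸ (pullStalkShIso ξ f).hom.app F y

theorem pst_bijective (f : Z ⟶ Y) (F : EtDesc.Sh Y) {ξ : Spec (CommRingCat.of Ω) ⟶ Z}
    {η : Spec (CommRingCat.of Ω) ⟶ Y} (h : ξ ≫ f = η) : Function.Bijective (pst f F h) := by
  subst h
  exact ConcreteCategory.bijective_of_isIso ((pullStalkShIso ξ f).hom.app F)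

theorem pst_map (f : Z ⟶ Y) {F G : EtDesc.Sh Y} (a : F ⟶ G) {ξ : Spec (CommRingCat.of Ω) ⟶ Z}
    {η : Spec (CommRingCat.of Ω) ⟶ Y} (h : ξ ≫ f = η) (y : (stalkSh ξ).obj ((EtDesc.pullSh f).obj F)) :
    pst f G h ((stalkSh ξ).map ((EtDesc.pullSh f).map a) y) = (stalkSh η).map a (pst f F h y) := by
  subst h
  exact NatTrans.naturality_apply (pullStalkShIso ξ f).hom a y

/-- The unit germ reads as the original germ. -/
theorem pst_unit (f : Z ⟶ Y) (F : EtDesc.Sh Y) {W : Y.Etale} {ξ : Spec (CommRingCat.of Ω) ⟶ Z}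
    {η : Spec (CommRingCat.of Ω) ⟶ Y} (h : ξ ≫ f = η) (l : Spec (CommRingCat.of Ω) ⟶ ((EtCoh.bc f).obj W).left)
    (hl : l ≫ ((EtCoh.bc f).obj W).hom = ξ) (hl' : (l ≫ pullback.fst W.hom f) ≫ W.hom = η)
    (t : EtDesc.sect F W) :
    pst f F h (gSh ((EtDesc.pullSh f).obj F) l hl (((EtDesc.adjSh f).unit.app F).hom.app (op W) t)) =
      gSh F (l ≫ pullback.fst W.hom f) hl' t := by
  subst h
  have h' : l ≫ ((EtCoh.bc f).obj W).hom ≫ f = ξ ≫ f :=
    (Category.assoc _ _ _).symm.trans (congrArg (· ≫ f) hl)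
  exact (pullVal_eq f F (((EtDesc.adjSh f).unit.app F).hom.app (op W) t) l hl h').symm.trans
    (pullVal_unit f F t Ω l (ξ ≫ f) h' hl')

theorem exists_pullCompSh_inv_unit (g : Z ⟶ Y) (a : Y ⟶ X) (F : EtDesc.Sh X) (W : X.Etale) :
    ∃ r : (EtCoh.bc g).obj ((EtCoh.bc a).obj W) ⟶ (EtCoh.bc (g ≫ a)).obj W,
      r.left ≫ pullback.fst W.hom (g ≫ a) =
        pullback.fst ((EtCoh.bc a).obj W).hom g ≫ pullback.fst W.hom a ∧
      ∀ t : EtDesc.sect F W,
        ((EtDesc.pullCompSh g a).inv.app F).hom.app (op ((EtCoh.bc g).obj ((EtCoh.bc a).obj W)))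
          (((EtDesc.adjSh g).unit.app ((EtDesc.pullSh a).obj F)).hom.app (op ((EtCoh.bc a).obj W))
            (((EtDesc.adjSh a).unit.app F).hom.app (op W) t)) =
          ((EtDesc.pullSh (g ≫ a)).obj F).obj.map r.op
            (((EtDesc.adjSh (g ≫ a)).unit.app F).hom.app (op W) t) := by
  let α : EtCoh.bc a ⋙ EtCoh.bc g ≅ EtCoh.bc (g ≫ a) :=
    (MorphismProperty.Over.pullbackComp (P := EtCoh.etaleMP) (Q := ⊤) g a).symm
  refine ⟨α.hom.app W, ?_, fun t => ?_⟩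
  · simp [α, MorphismProperty.Over.pullbackComp, EtCoh.bc]
    exact (congrArg (_ ≫ ·) (Category.id_comp _)).trans (pullbackLeftPullbackSndIso_hom_fst _ _ _)
  · let adj₁ := EtDesc.adjSh (g ≫ a)
    let adj₂ := ((EtDesc.adjSh a).comp (EtDesc.adjSh g)).ofNatIsoRight (EtDesc.pushCompSh a g)
    let G₁ := (EtDesc.pullSh g).obj ((EtDesc.pullSh a).obj F)
    let G₂ := (EtDesc.pullSh (g ≫ a)).obj F
    let φ : G₁ ⟶ G₂ := (adj₂.leftAdjointUniq adj₁).hom.app F
    have hu : adj₂.unit.app F = (EtDesc.adjSh a).unit.app F ≫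
        (EtDesc.pushSh a).map ((EtDesc.adjSh g).unit.app ((EtDesc.pullSh a).obj F)) ≫
          (EtDesc.pushCompSh a g).hom.app ((EtDesc.pullSh g).obj ((EtDesc.pullSh a).obj F)) := by
      simp [adj₂, Adjunction.ofNatIsoRight, Adjunction.comp_unit_app]
    let x : EtDesc.sect G₁ ((EtCoh.bc g).obj ((EtCoh.bc a).obj W)) :=
      ((EtDesc.adjSh g).unit.app ((EtDesc.pullSh a).obj F)).hom.app (op ((EtCoh.bc a).obj W))
        (((EtDesc.adjSh a).unit.app F).hom.app (op W) t)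
    have hx : (adj₂.unit.app F).hom.app (op W) t = G₁.obj.map (α.inv.app W).op x := by
      rw [hu]
      simp [x, G₁, α, EtDesc.pushCompSh]
      rfl
    have key : φ.hom.app (op ((EtCoh.bc (g ≫ a)).obj W)) ((adj₂.unit.app F).hom.app (op W) t) =
        (adj₁.unit.app F).hom.app (op W) t :=
      congrArg (fun k : F ⟶ (EtDesc.pushSh (g ≫ a)).obj G₂ => k.hom.app (op W) t)
        (Adjunction.unit_leftAdjointUniq_hom_app adj₂ adj₁ F)
    rw [hx] at key
    show φ.hom.app (op ((EtCoh.bc g).obj ((EtCoh.bc a).obj W))) x = G₂.obj.map (α.hom.app W).op _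
    rw [← key]
    refine Eq.trans (congrArg (φ.hom.app _) ?_) (NatTrans.naturality_apply φ.hom (α.hom.app W).op _)
    refine Eq.trans ?_ (ConcreteCategory.comp_apply (G₁.obj.map (α.inv.app W).op) (G₁.obj.map (α.hom.app W).op) x)
    rw [← Functor.map_comp, ← op_comp, Iso.hom_inv_id_app, op_id, CategoryTheory.Functor.map_id]
    rfl

theorem exists_gSh_unit (f : Z ⟶ Y) (F : EtDesc.Sh Y) {ξ : Spec (CommRingCat.of Ω) ⟶ Z}
    (y : (stalkSh ξ).obj ((EtDesc.pullSh f).obj F)) :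
    ∃ (W : Y.Etale) (l : Spec (CommRingCat.of Ω) ⟶ ((EtCoh.bc f).obj W).left)
      (hl : l ≫ ((EtCoh.bc f).obj W).hom = ξ) (t : EtDesc.sect F W),
      gSh ((EtDesc.pullSh f).obj F) l hl (((EtDesc.adjSh f).unit.app F).hom.app (op W) t) = y := by
  obtain ⟨W, l, hl, t, ht⟩ := exists_gSh (pst f F rfl y)
  let l' : Spec (CommRingCat.of Ω) ⟶ ((EtCoh.bc f).obj W).left := pullback.lift l ξ hl
  have hl' : l' ≫ ((EtCoh.bc f).obj W).hom = ξ := pullback.lift_snd _ _ _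
  refine ⟨W, l', hl', t, (pst_bijective f F rfl).injective ?_⟩
  exact (pst_unit f F rfl l' hl' ((congrArg (· ≫ W.hom) (pullback.lift_fst _ _ _)).trans hl) t).trans
    ((gSh_congr (pullback.lift_fst _ _ _) _ hl t).trans ht)

theorem gSh_stalk_map {F G : EtDesc.Sh Z} (a : F ⟶ G) {W : Z.Etale} {ξ : Spec (CommRingCat.of Ω) ⟶ Z}
    (l : Spec (CommRingCat.of Ω) ⟶ W.left) (hl : l ≫ W.hom = ξ) (t : EtDesc.sect F W) :
    (stalkSh ξ).map a (gSh F l hl t) = gSh G l hl (a.hom.app (op W) t) :=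
  (Scheme.pointSmallEtale ξ).toPresheafFiber_naturality_apply a.hom W (fib ξ l hl) t

/-- Stalks of the composition isomorphism. -/
theorem pst_pullVia (g : Z ⟶ Y) (a : Y ⟶ X) (b : Z ⟶ X) (w : g ≫ a = b) (F : EtDesc.Sh X)
    {ξ : Spec (CommRingCat.of Ω) ⟶ Z} {ζ : Spec (CommRingCat.of Ω) ⟶ Y} {η : Spec (CommRingCat.of Ω) ⟶ X}
    (hg : ξ ≫ g = ζ) (ha : ζ ≫ a = η) (hb : ξ ≫ b = η)
    (y : (stalkSh ξ).obj ((EtDesc.pullSh g).obj ((EtDesc.pullSh a).obj F))) :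
    pst b F hb ((stalkSh ξ).map (EtDesc.pullVia g a b w F).hom y) = pst a F ha (pst g _ hg y) := by
  subst w hg ha
  obtain ⟨W₁, l₁, hl₁, t₁, rfl⟩ := exists_gSh_unit g _ y
  have hq₁ : (l₁ ≫ pullback.fst W₁.hom g) ≫ W₁.hom = ξ ≫ g :=
    (Category.assoc _ _ _).trans ((congrArg (l₁ ≫ ·) (bc_cond g W₁)).trans
      ((Category.assoc _ _ _).symm.trans (congrArg (· ≫ g) hl₁)))
  obtain ⟨W, m, hm, t, ht⟩ := exists_gSh_unit a F (gSh ((EtDesc.pullSh a).obj F) (l₁ ≫ pullback.fst W₁.hom g) hq₁ t₁)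
  let L : Spec (CommRingCat.of Ω) ⟶ ((EtCoh.bc g).obj ((EtCoh.bc a).obj W)).left := pullback.lift m ξ hm
  have hL : L ≫ ((EtCoh.bc g).obj ((EtCoh.bc a).obj W)).hom = ξ := pullback.lift_snd _ _ _
  have hLf : L ≫ pullback.fst ((EtCoh.bc a).obj W).hom g = m := pullback.lift_fst _ _ _
  obtain ⟨r, hr, hrt⟩ := exists_pullCompSh_inv_unit g a F W
  have hy : gSh ((EtDesc.pullSh g).obj ((EtDesc.pullSh a).obj F)) l₁ hl₁
      (((EtDesc.adjSh g).unit.app ((EtDesc.pullSh a).obj F)).hom.app (op W₁) t₁) =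
      gSh ((EtDesc.pullSh g).obj ((EtDesc.pullSh a).obj F)) L hL
        (((EtDesc.adjSh g).unit.app ((EtDesc.pullSh a).obj F)).hom.app (op ((EtCoh.bc a).obj W))
          (((EtDesc.adjSh a).unit.app F).hom.app (op W) t)) :=
    (pst_bijective g _ rfl).injective ((pst_unit g _ rfl l₁ hl₁ hq₁ t₁).trans (ht.symm.trans
      ((pst_unit g _ rfl L hL ((congrArg (· ≫ ((EtCoh.bc a).obj W).hom) hLf).trans hm) _).trans
        (gSh_congr hLf _ hm _)).symm))
  have hmW : (m ≫ pullback.fst W.hom a) ≫ W.hom = (ξ ≫ g) ≫ a :=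
    (Category.assoc _ _ _).trans ((congrArg (m ≫ ·) (bc_cond a W)).trans
      ((Category.assoc _ _ _).symm.trans (congrArg (· ≫ a) hm)))
  have hLr : (L ≫ r.left) ≫ pullback.fst W.hom (g ≫ a) = m ≫ pullback.fst W.hom a :=
    (Category.assoc _ _ _).trans ((congrArg (L ≫ ·) hr).trans ((Category.assoc _ _ _).symm.trans
      (congrArg (· ≫ pullback.fst W.hom a) hLf)))
  rw [hy, gSh_stalk_map]
  have hvia : (EtDesc.pullVia g a (g ≫ a) rfl F).hom = (EtDesc.pullCompSh g a).inv.app F := by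
    simp [EtDesc.pullVia, EtDesc.pullCongrSh]
  rw [hvia, hrt t, gSh_map r L hL ((Category.assoc _ _ _).trans ((congrArg (L ≫ ·) (hom_left r)).trans hL))]
  refine (pst_unit (g ≫ a) F hb (L ≫ r.left) _ ((congrArg (· ≫ W.hom) hLr).trans hmW) t).trans ?_
  refine (gSh_congr hLr _ hmW t).trans ?_
  refine Eq.symm (Eq.trans (congrArg (pst a F rfl) ((pst_unit g _ rfl L hL
    ((congrArg (· ≫ ((EtCoh.bc a).obj W).hom) hLf).trans hm) _).trans (gSh_congr hLf _ hm _))) ?_)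
  exact pst_unit a F rfl m hm hmW t

end GrothLib.EtDescent
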